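import Mathlib
import Cfsg.Agent.PPN.ClaimC

set_option autoImplicit false

/-!
# Weakly normal subsystems: the extension condition for `O^{p'}(E)` (S5141), basic API

`F` is a fusion system over `S`, `T` is strongly closed in `F`, `C0 = C_S(T)`.  A map `φ` of `F` with
source `P ≤ T` is *good* if it has an extension `ψ` to `P C0` in `F` which is trivial modulo `T`
(`y⁻¹ ψ(y) ∈ T` for all `y`).  Good maps between subgroups of the class `ppnCen F T` (every
`F`-conjugate contains its centralizer in `T`) form a fusion system `wneSys` over `T`.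
-/

namespace Cfsg.Agent.WNE

open Cfsg Cfsg.FusionSystem Cfsg.Agent.Lead Cfsg.Agent.Lead.StrongInv
open Cfsg.Agent.Helper2.PPrimeRes Cfsg.Agent.PPN

variable {Ω : Type*} [Group Ω] {S T : Subgroup Ω}

/-- `φ` has an extension to `P C_S(T)` in `F` which is trivial modulo `T`. -/
def wneGood (F : FusionSystem S) (T P : Subgroup Ω) (φ : P →* Ω) : Prop :=
  ∃ ψ ∈ F.Hom (P ⊔ centralizerIn S T), (∀ x : P, ψ (Subgroup.inclusion le_sup_left x) = φ x) ∧
    ∀ y : ↥(P ⊔ centralizerIn S T), (y : Ω)⁻¹ * ψ y ∈ T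

theorem wne_conj_mem (F : FusionSystem S) (hT : F.StronglyClosed T) {s x : Ω} (hs : s ∈ S)
    (hx : x ∈ T) : s * x * s⁻¹ ∈ T :=
  hT.2 T le_rfl (conjHom T s) (F.conj_mem hT.1 hs) ⟨x, hx⟩

theorem wne_conj_mem' (F : FusionSystem S) (hT : F.StronglyClosed T) {s x : Ω} (hs : s ∈ S)
    (hx : x ∈ T) : s⁻¹ * x * s ∈ T := by
  have := wne_conj_mem F hT (S.inv_mem hs) hx
  rwa [inv_inv] at this

/-- Triviality modulo `T` need only be checked on `C_S(T)`. -/
theorem wne_triv_of_centralizer (F : FusionSystem S) (hT : F.StronglyClosed T) {P : Subgroup Ω}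
    (hPT : P ≤ T) {ψ : ↥(P ⊔ centralizerIn S T) →* Ω} (hψ : ψ ∈ F.Hom (P ⊔ centralizerIn S T))
    (hc : ∀ c : ↥(P ⊔ centralizerIn S T), (c : Ω) ∈ centralizerIn S T → (c : Ω)⁻¹ * ψ c ∈ T)
    (y : ↥(P ⊔ centralizerIn S T)) : (y : Ω)⁻¹ * ψ y ∈ T := by
  have hle : P ⊔ centralizerIn S T ≤ S := Fusion.src_le F hψ
  let H : Subgroup ↥(P ⊔ centralizerIn S T) :=
    { carrier := {y | (y : Ω)⁻¹ * ψ y ∈ T}
      one_mem' := by
        show ((1 : ↥(P ⊔ centralizerIn S T)) : Ω)⁻¹ * ψ 1 ∈ T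
        simp
      mul_mem' := by
        intro a b ha hb
        show ((a * b : ↥(P ⊔ centralizerIn S T)) : Ω)⁻¹ * ψ (a * b) ∈ T
        have h1 : ((a * b : ↥(P ⊔ centralizerIn S T)) : Ω)⁻¹ * ψ (a * b) =
            ((b : Ω)⁻¹ * ((a : Ω)⁻¹ * ψ a) * (b : Ω)) * ((b : Ω)⁻¹ * ψ b) := by
          rw [map_mul, Subgroup.coe_mul]
          group
        rw [h1]
        exact T.mul_mem (wne_conj_mem' F hT (hle b.2) ha) hb
      inv_mem' := by
        intro a ha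
        show ((a⁻¹ : ↥(P ⊔ centralizerIn S T)) : Ω)⁻¹ * ψ a⁻¹ ∈ T
        have h1 : ((a⁻¹ : ↥(P ⊔ centralizerIn S T)) : Ω)⁻¹ * ψ a⁻¹ =
            (a : Ω) * ((a : Ω)⁻¹ * ψ a)⁻¹ * (a : Ω)⁻¹ := by
          rw [map_inv, Subgroup.coe_inv]
          group
        rw [h1]
        exact wne_conj_mem F hT (hle a.2) (T.inv_mem ha) }
  have h : (P ⊔ centralizerIn S T).subgroupOf (P ⊔ centralizerIn S T) ≤ H := by
    rw [Subgroup.subgroupOf_sup le_sup_left le_sup_right]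
    apply sup_le
    · intro z hz
      rw [Subgroup.mem_subgroupOf] at hz
      show (z : Ω)⁻¹ * ψ z ∈ T
      exact T.mul_mem (T.inv_mem (hPT hz)) (Fusion.map_mem_of_stronglyClosed F hT hψ z (hPT hz))
    · intro z hz
      rw [Subgroup.mem_subgroupOf] at hz
      exact hc z hz
  have hy : y ∈ (P ⊔ centralizerIn S T).subgroupOf (P ⊔ centralizerIn S T) := by
    rw [Subgroup.mem_subgroupOf]; exact y.2
  exact h hy

/-- (g0) The discrepancy on `C_S(T)` lies in the image of `φ`, and the extension maps `P C0` onto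
`φ(P) C0`. -/
theorem wne_good_range (F : FusionSystem S) (hT : F.StronglyClosed T) {P : Subgroup Ω}
    (hPT : P ≤ T) {φ : P →* Ω} (hcen : centralizerIn T φ.range ≤ φ.range)
    {ψ : ↥(P ⊔ centralizerIn S T) →* Ω} (hψ : ψ ∈ F.Hom (P ⊔ centralizerIn S T))
    (hext : ∀ x : P, ψ (Subgroup.inclusion le_sup_left x) = φ x)
    (htriv : ∀ y : ↥(P ⊔ centralizerIn S T), (y : Ω)⁻¹ * ψ y ∈ T) :
    (∀ c : ↥(P ⊔ centralizerIn S T), (c : Ω) ∈ centralizerIn S T → (c : Ω)⁻¹ * ψ c ∈ φ.range) ∧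
      ψ.range = φ.range ⊔ centralizerIn S T := by
  have hφT : ∀ x : P, φ x ∈ T := by
    intro x
    rw [← hext x]
    exact Fusion.map_mem_of_stronglyClosed F hT hψ _ (hPT x.2)
  have h1 : ∀ c : ↥(P ⊔ centralizerIn S T), (c : Ω) ∈ centralizerIn S T →
      (c : Ω)⁻¹ * ψ c ∈ φ.range := by
    intro c hc
    apply hcen
    refine Subgroup.mem_inf.mpr ⟨htriv c, ?_⟩
    rw [Subgroup.mem_centralizer_iff]
    rintro _ ⟨x, rfl⟩
    have hcC := (Subgroup.mem_inf.mp hc).2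
    rw [Subgroup.mem_centralizer_iff] at hcC
    have e1 : (x : Ω) * (c : Ω) = (c : Ω) * (x : Ω) := hcC x (hPT x.2)
    have e2 : φ x * (c : Ω) = (c : Ω) * φ x := hcC _ (hφT x)
    have e3 : ψ (Subgroup.inclusion le_sup_left x) * ψ c = ψ c * ψ (Subgroup.inclusion le_sup_left x) := by
      rw [← map_mul, ← map_mul]
      congr 1
      exact Subtype.ext e1
    rw [hext x] at e3
    have hc1 : Commute (φ x) (c : Ω) := e2
    have hc2 : Commute (φ x) (ψ c) := e3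
    exact (hc1.inv_right.mul_right hc2).eq
  refine ⟨h1, le_antisymm ?_ (sup_le ?_ ?_)⟩
  · rintro _ ⟨y, rfl⟩
    apply Fusion.sup_map_mem ψ (φ.range ⊔ centralizerIn S T)
    · intro x
      rw [hext x]
      exact Subgroup.mem_sup_left ⟨x, rfl⟩
    · intro c
      have h2 := h1 (Subgroup.inclusion le_sup_right c) c.2
      have h3 : ψ (Subgroup.inclusion le_sup_right c) =
          (c : Ω) * ((c : Ω)⁻¹ * ψ (Subgroup.inclusion le_sup_right c)) := by group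
      rw [h3]
      exact Subgroup.mul_mem _ (Subgroup.mem_sup_right c.2) (Subgroup.mem_sup_left h2)
  · rintro _ ⟨x, rfl⟩
    exact ⟨Subgroup.inclusion le_sup_left x, hext x⟩
  · intro c hc
    obtain ⟨x, hx⟩ := h1 ⟨c, Subgroup.mem_sup_right hc⟩ hc
    refine ⟨⟨c, Subgroup.mem_sup_right hc⟩ * (Subgroup.inclusion le_sup_left x)⁻¹, ?_⟩
    rw [map_mul, map_inv, hext x, hx]
    group

/-- (g1) Composition of good maps. -/
theorem wneGood_comp (F : FusionSystem S) (hT : F.StronglyClosed T) {P Q : Subgroup Ω}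
    (hPT : P ≤ T) {φ : P →* Ω} {ψ : Q →* Ω}
    (hcen : centralizerIn T φ.range ≤ φ.range) (hφ : wneGood F T P φ) (hψ : wneGood F T Q ψ)
    (h : ∀ x : P, φ x ∈ Q) : wneGood F T P (ψ.comp (φ.codRestrict Q h)) := by
  obtain ⟨φh, hφh, hφext, hφtriv⟩ := hφ
  obtain ⟨ψh, hψh, hψext, hψtriv⟩ := hψ
  obtain ⟨-, hrange⟩ := wne_good_range F hT hPT hcen hφh hφext hφtriv
  have hRQ : φ.range ≤ Q := by
    rintro _ ⟨x, rfl⟩
    exact h x
  have hval : ∀ y : ↥(P ⊔ centralizerIn S T), φh y ∈ Q ⊔ centralizerIn S T := by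
    intro y
    have : φh y ∈ φh.range := ⟨y, rfl⟩
    rw [hrange] at this
    exact (sup_le_sup_right hRQ _) this
  refine ⟨ψh.comp (φh.codRestrict _ hval), F.comp_mem hφh hψh hval, ?_, ?_⟩
  · intro x
    show ψh ⟨φh (Subgroup.inclusion le_sup_left x), _⟩ = ψ ⟨φ x, h x⟩
    rw [← hψext ⟨φ x, h x⟩]
    congr 1
    exact Subtype.ext (hφext x)
  · intro y
    show (y : Ω)⁻¹ * ψh ⟨φh y, hval y⟩ ∈ T
    have h1 := hφtriv y
    have h2 := hψtriv ⟨φh y, hval y⟩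
    have h3 : (y : Ω)⁻¹ * ψh ⟨φh y, hval y⟩ =
        ((y : Ω)⁻¹ * φh y) * ((φh y)⁻¹ * ψh ⟨φh y, hval y⟩) := by group
    rw [h3]
    exact T.mul_mem h1 h2

/-- (g1) The inverse of a good map is good. -/
theorem wneGood_inv (F : FusionSystem S) (hT : F.StronglyClosed T) {P Q : Subgroup Ω}
    (hPT : P ≤ T) {φ : P →* Ω} (hcen : centralizerIn T φ.range ≤ φ.range)
    (hφ : wneGood F T P φ) (hr : φ.range = Q) {χ : Q →* Ω}
    (hinv : ∀ (x : P) (hx : φ x ∈ Q), χ ⟨φ x, hx⟩ = (x : Ω)) : wneGood F T Q χ := by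
  obtain ⟨φh, hφh, hφext, hφtriv⟩ := hφ
  obtain ⟨-, hrange⟩ := wne_good_range F hT hPT hcen hφh hφext hφtriv
  have hr' : φh.range = Q ⊔ centralizerIn S T := by rw [hrange, hr]
  obtain ⟨χh, hχh, hχinv, -⟩ := Fusion.exists_inv F hφh hr'
  have hmem : ∀ y : ↥(P ⊔ centralizerIn S T), φh y ∈ Q ⊔ centralizerIn S T :=
    fun y => hr' ▸ ⟨y, rfl⟩
  refine ⟨χh, hχh, ?_, ?_⟩
  · rintro ⟨q, hq⟩
    have hq' : q ∈ φ.range := hr ▸ hq
    obtain ⟨x, rfl⟩ := hq'
    rw [hinv x hq]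
    have h1 : χh ⟨φh (Subgroup.inclusion le_sup_left x), hmem _⟩ = (x : Ω) :=
      hχinv (Subgroup.inclusion le_sup_left x) (hmem _)
    refine Eq.trans ?_ h1
    congr 1
    exact Subtype.ext (hφext x).symm
  · rintro ⟨y', hy'⟩
    have hy'' : y' ∈ φh.range := hr' ▸ hy'
    obtain ⟨y, rfl⟩ := hy''
    show (φh y)⁻¹ * χh ⟨φh y, hy'⟩ ∈ T
    rw [hχinv y hy']
    have h1 := T.inv_mem (hφtriv y)
    have h2 : ((y : Ω)⁻¹ * φh y)⁻¹ = (φh y)⁻¹ * (y : Ω) := by group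
    rwa [h2] at h1

/-- (g1) Restriction of a good map is good. -/
theorem wneGood_restrict (F : FusionSystem S) {P R : Subgroup Ω} {φ : P →* Ω}
    (hφ : wneGood F T P φ) (hRP : R ≤ P) : wneGood F T R (φ.comp (Subgroup.inclusion hRP)) := by
  obtain ⟨φh, hφh, hφext, hφtriv⟩ := hφ
  have hle : R ⊔ centralizerIn S T ≤ P ⊔ centralizerIn S T := sup_le_sup_right hRP _
  refine ⟨φh.comp (Subgroup.inclusion hle), Fusion.restrict_mem F hφh hle, ?_, ?_⟩
  · intro x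
    exact hφext (Subgroup.inclusion hRP x)
  · intro y
    exact hφtriv (Subgroup.inclusion hle y)

/-- (g1) Conjugation by an element of `T` is good. -/
theorem wneGood_conj (F : FusionSystem S) (hT : F.StronglyClosed T) {P : Subgroup Ω} (hPT : P ≤ T)
    {t : Ω} (ht : t ∈ T) : wneGood F T P (conjHom P t) := by
  have hle : P ⊔ centralizerIn S T ≤ S := sup_le (hPT.trans hT.1) inf_le_left
  refine ⟨conjHom _ t, F.conj_mem hle (hT.1 ht), fun x => rfl, ?_⟩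
  intro y
  show (y : Ω)⁻¹ * (t * (y : Ω) * t⁻¹) ∈ T
  have h1 := wne_conj_mem' F hT (hle y.2) ht
  have h2 : (y : Ω)⁻¹ * (t * (y : Ω) * t⁻¹) = ((y : Ω)⁻¹ * t * (y : Ω)) * t⁻¹ := by group
  rw [h2]
  exact T.mul_mem h1 (T.inv_mem ht)

/-- A good map is a map of `F`. -/
theorem wneGood_mem (F : FusionSystem S) {P : Subgroup Ω} {φ : P →* Ω}
    (hφ : wneGood F T P φ) : φ ∈ F.Hom P := by
  obtain ⟨φh, hφh, hφext, -⟩ := hφ
  have h1 := Fusion.restrict_mem F hφh (le_sup_left : P ≤ P ⊔ centralizerIn S T)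
  convert h1 using 1
  ext x
  exact (hφext x).symm

/-- The system of the maps of `F` between subgroups of `T` which are good whenever their source
lies in the class `ppnCen F T`. -/
def wneSys (F : FusionSystem S) (hT : F.StronglyClosed T) : FusionSystem T where
  Hom P := {φ | φ ∈ F.Hom P ∧ P ≤ T ∧ (ppnCen F T P → wneGood F T P φ)}
  le_of_mem := by
    intro P φ h
    exact ⟨h.2.1, fun x => hT.2 P h.2.1 φ h.1 x⟩
  injective_of_mem h := F.injective_of_mem h.1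
  conj_mem := by
    intro P g hP hg
    exact ⟨F.conj_mem (hP.trans hT.1) (hT.1 hg), hP, fun _ => wneGood_conj F hT hP hg⟩
  comp_mem := by
    intro P Q φ ψ hφ hψ h
    refine ⟨F.comp_mem hφ.1 hψ.1 h, hφ.2.1, fun hcen => ?_⟩
    have hcr : ppnCen F T φ.range := ppnCen_of_le F hcen le_rfl ⟨φ, hφ.1, rfl⟩
    have hRQ : φ.range ≤ Q := by
      rintro _ ⟨x, rfl⟩
      exact h x
    have hQ : ppnCen F T Q :=
      ppnCen_of_le F hcr hRQ (Fusion.isConj_refl F (hψ.2.1.trans hT.1))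
    exact wneGood_comp F hT hφ.2.1 (hcr _ (Fusion.isConj_refl F (Fusion.range_le F hφ.1)))
      (hφ.2.2 hcen) (hψ.2.2 hQ) h
  inv_mem := by
    intro P φ hφ
    obtain ⟨χ, hχ, hinv⟩ := F.inv_mem hφ.1
    have hRT : φ.range ≤ T := by
      rintro _ ⟨x, rfl⟩
      exact hT.2 P hφ.2.1 φ hφ.1 x
    refine ⟨χ, ⟨hχ, hRT, fun hcr => ?_⟩, hinv⟩
    have hcen : ppnCen F T P :=
      ppnCen_of_le F hcr le_rfl (Fusion.isConj_symm F ⟨φ, hφ.1, rfl⟩)
    exact wneGood_inv F hT hφ.2.1 (hcr _ (Fusion.isConj_refl F (Fusion.range_le F hφ.1)))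
      (hφ.2.2 hcen) rfl (fun x _ => hinv x)

theorem mem_wneSys (F : FusionSystem S) (hT : F.StronglyClosed T) {P : Subgroup Ω} (φ : P →* Ω) :
    φ ∈ (wneSys F hT).Hom P ↔ φ ∈ F.Hom P ∧ P ≤ T ∧ (ppnCen F T P → wneGood F T P φ) := Iff.rfl

theorem wneSys_le (F : FusionSystem S) (hT : F.StronglyClosed T) :
    (wneSys F hT).IsSubsystemOf F := fun _ _ h => h.1

/-- For `P ≤ T` the class `ppnCen F T` consists of `E`-centric subgroups. -/
theorem wne_isCentric_of_ppnCen (F : FusionSystem S) (E : FusionSystem T)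
    (hEF : E.IsSubsystemOf F) {P : Subgroup Ω} (hPT : P ≤ T) (hP : ppnCen F T P) :
    E.IsCentric P :=
  ⟨hPT, fun Q hQ => by
    obtain ⟨φ, hφ, hr⟩ := hQ
    exact hP Q ⟨φ, hEF P hφ, hr⟩⟩

end Cfsg.Agent.WNE
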