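import Mathlib
import Cfsg.Agent.WNE.Basic

set_option autoImplicit false

/-!
# S5141: the system `wneSys` is invariant under `Aut_F(T)` (g2)
-/

namespace Cfsg.Agent.WNE

open Cfsg Cfsg.FusionSystem Cfsg.Agent.Lead Cfsg.Agent.Lead.StrongInv
open Cfsg.Agent.Helper2.PPrimeRes Cfsg.Agent.PPN

variable {Ω : Type*} [Group Ω] {S T : Subgroup Ω}

/-- A strongly closed subgroup is receptive. -/
theorem wne_top_receptive [Finite S] (p : ℕ) [Fact p.Prime] (F : FusionSystem S)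
    (hF : F.IsSaturated p) (hT : F.StronglyClosed T) : F.IsReceptive T := by
  have hWC := Fusion.weaklyClosed_of_stronglyClosed F hT
  obtain ⟨Q, ⟨φ, hφ, hr⟩, -, hQ₂⟩ := hF T hT.1
  have : Q = T := by rw [← hr]; exact hWC.2 φ hφ
  rwa [this] at hQ₂

/-- Elements of `Aut_F(T C_S(T))` preserve `C_S(T)`. -/
theorem wne_aut_centralizer [Finite S] (F : FusionSystem S) (hT : F.StronglyClosed T)
    (A : MulAut ↥(T ⊔ centralizerIn S T)) (hA : A ∈ F.autGroup (T ⊔ centralizerIn S T))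
    (c : ↥(T ⊔ centralizerIn S T)) (hc : (c : Ω) ∈ centralizerIn S T) :
    ((A c : ↥(T ⊔ centralizerIn S T)) : Ω) ∈ centralizerIn S T := by
  have hle : T ⊔ centralizerIn S T ≤ S := sup_le hT.1 inf_le_left
  refine Subgroup.mem_inf.mpr ⟨hle (A c).2, ?_⟩
  rw [Subgroup.mem_centralizer_iff]
  intro t ht
  have hA' : A⁻¹ ∈ F.autGroup (T ⊔ centralizerIn S T) := Subgroup.inv_mem _ hA
  set t0 : ↥(T ⊔ centralizerIn S T) := ⟨t, Subgroup.mem_sup_left ht⟩ with ht0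
  have ht' : ((A⁻¹ t0 : ↥(T ⊔ centralizerIn S T)) : Ω) ∈ T :=
    Fusion.aut_mem_of_stronglyClosed F hle hT A⁻¹ hA' t0 ht
  have hcomm : A⁻¹ t0 * c = c * A⁻¹ t0 := by
    apply Subtype.ext
    exact (Subgroup.mem_inf.mp hc).2 _ ht'
  have h2 : A (A⁻¹ t0 * c) = A (c * A⁻¹ t0) := by rw [hcomm]
  rw [map_mul, map_mul, MulAut.apply_inv_self] at h2
  exact congrArg Subtype.val h2

/-- Every `α ∈ Aut_F(T)` extends to an element of `Aut_F(T C_S(T))`. -/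
theorem wne_aut_ext [Finite S] (p : ℕ) [Fact p.Prime] (F : FusionSystem S) (hF : F.IsSaturated p)
    (hT : F.StronglyClosed T) (α : MulAut T) (hα : α ∈ F.autGroup T) :
    ∃ A ∈ F.autGroup (T ⊔ centralizerIn S T), ∀ x : T,
      ((A (Subgroup.inclusion le_sup_left x) : ↥(T ⊔ centralizerIn S T)) : Ω) = ((α x : T) : Ω) := by
  have hTS : T ≤ S := hT.1
  have hWC := Fusion.weaklyClosed_of_stronglyClosed F hT
  have hrec := wne_top_receptive p F hF hT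
  set φ : T →* Ω := T.subtype.comp α.toMonoidHom with hφdef
  have hφ : φ ∈ F.Hom T := (Fusion.mem_autGroup_iff F hTS α).mp hα
  have hr : φ.range = T := hWC.2 φ hφ
  obtain ⟨ψ, hψ, hψx⟩ := hrec.2 T φ hφ hr
  set C := centralizerIn S T with hC
  have hle : T ⊔ C ≤ extender S T φ :=
    sup_le (Fusion.le_extender T hTS φ (fun x => hTS (α x).2)) (Fusion.centralizerIn_le_extender T φ)
  have hTC : T ⊔ C ≤ S := sup_le hTS inf_le_left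
  haveI : Finite ↥(T ⊔ C) := Fusion.finite_of_le hTC
  have hψ' := Fusion.restrict_mem F hψ hle
  set ψ' : ↥(T ⊔ C) →* Ω := ψ.comp (Subgroup.inclusion hle) with hψ'def
  have hψ'T : ∀ x : T, ψ' (Subgroup.inclusion le_sup_left x) = ((α x : T) : Ω) := by
    intro x
    exact hψx x x.2 (hle ((le_sup_left : T ≤ T ⊔ C) x.2))
  have hψ'C : ∀ c : ↥(T ⊔ C), (c : Ω) ∈ C → ψ' c ∈ C := by
    intro c hc
    refine Subgroup.mem_inf.mpr ⟨Fusion.map_mem F hψ' c, ?_⟩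
    rw [Subgroup.mem_centralizer_iff]
    intro t ht
    obtain ⟨t', ht'⟩ : ∃ t' : T, ((α t' : T) : Ω) = t := ⟨α.symm ⟨t, ht⟩, by simp⟩
    rw [← ht', ← hψ'T t', ← map_mul, ← map_mul]
    congr 1
    apply Subtype.ext
    show (t' : Ω) * (c : Ω) = (c : Ω) * (t' : Ω)
    exact (Subgroup.mem_inf.mp hc).2 t' t'.2
  have hrange : ψ'.range = T ⊔ C := by
    apply Subgroup.eq_of_le_of_card_ge
    · rintro _ ⟨y, rfl⟩
      revert y
      apply Fusion.sup_map_mem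
      · intro x
        rw [hψ'T]
        exact (le_sup_left : T ≤ T ⊔ C) (α x).2
      · intro c
        exact (le_sup_right : C ≤ T ⊔ C) (hψ'C _ c.2)
    · rw [Nat.card_congr (Equiv.ofInjective ψ' (F.injective_of_mem hψ'))]
      rfl
  obtain ⟨β₀, hβ₀, hβ₀x⟩ := Fusion.exists_aut_of_range_eq F hψ' hrange
  exact ⟨β₀, hβ₀, fun x => by rw [hβ₀x, hψ'T]⟩

/-- Transport of a map of `wneSys` along `α ∈ Aut_F(T)`. -/
theorem wne_transport [Finite S] (p : ℕ) [Fact p.Prime] (F : FusionSystem S) (hF : F.IsSaturated p)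
    (hT : F.StronglyClosed T) {P : Subgroup Ω} (hPT : P ≤ T) {φ : P →* Ω}
    (hφ : φ ∈ (wneSys F hT).Hom P) (α : MulAut T) (hα : α ∈ F.autGroup T) (P' : Subgroup Ω)
    (hP' : ∀ z, z ∈ P' ↔ ∃ (x : Ω) (hx : x ∈ P), ((α ⟨x, hPT hx⟩ : T) : Ω) = z) :
    ∃ χ ∈ (wneSys F hT).Hom P', ∀ (x : Ω) (hx : x ∈ P) (hx' : ((α ⟨x, hPT hx⟩ : T) : Ω) ∈ P'),
      χ ⟨((α ⟨x, hPT hx⟩ : T) : Ω), hx'⟩ =
        ((α ⟨φ ⟨x, hx⟩, ((wneSys F hT).le_of_mem hφ).2 ⟨x, hx⟩⟩ : T) : Ω) := by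
  have hTS : T ≤ S := hT.1
  have hφT : ∀ x : P, φ x ∈ T := ((wneSys F hT).le_of_mem hφ).2
  have hP'T : P' ≤ T := by
    intro z hz
    obtain ⟨x, hx, rfl⟩ := (hP' z).mp hz
    exact (α _).2
  have hα' : α⁻¹ ∈ F.autGroup T := Subgroup.inv_mem _ hα
  have hαF := (Fusion.mem_autGroup_iff F hTS α).mp hα
  have hα'F := (Fusion.mem_autGroup_iff F hTS α⁻¹).mp hα'
  -- the map `α⁻¹ : P' → P`
  have hk0 := Fusion.restrict_mem F hα'F hP'T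
  set k0 : P' →* Ω := (T.subtype.comp α⁻¹.toMonoidHom).comp (Subgroup.inclusion hP'T) with hk0def
  have hk0P : ∀ y : P', k0 y ∈ P := by
    rintro ⟨z, hz⟩
    obtain ⟨x, hx, rfl⟩ := (hP' z).mp hz
    show ((α⁻¹ ⟨((α ⟨x, hPT hx⟩ : T) : Ω), _⟩ : T) : Ω) ∈ P
    rw [show (⟨((α ⟨x, hPT hx⟩ : T) : Ω), hP'T hz⟩ : T) = α ⟨x, hPT hx⟩ from rfl,
      MulAut.inv_apply_self]
    exact hx
  have hk0v : ∀ (x : Ω) (hx : x ∈ P) (hx' : ((α ⟨x, hPT hx⟩ : T) : Ω) ∈ P'),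
      k0.codRestrict P hk0P ⟨_, hx'⟩ = ⟨x, hx⟩ := by
    intro x hx hx'
    apply Subtype.ext
    show ((α⁻¹ ⟨((α ⟨x, hPT hx⟩ : T) : Ω), _⟩ : T) : Ω) = x
    rw [show (⟨((α ⟨x, hPT hx⟩ : T) : Ω), hP'T hx'⟩ : T) = α ⟨x, hPT hx⟩ from rfl,
      MulAut.inv_apply_self]
  have h1 := F.comp_mem hk0 hφ.1 hk0P
  have h1T : ∀ y : P', (φ.comp (k0.codRestrict P hk0P)) y ∈ T := fun y => hφT _
  have h2 := F.comp_mem h1 hαF h1T
  set χ : P' →* Ω := (T.subtype.comp α.toMonoidHom).comp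
    ((φ.comp (k0.codRestrict P hk0P)).codRestrict T h1T) with hχdef
  have hχv : ∀ (x : Ω) (hx : x ∈ P) (hx' : ((α ⟨x, hPT hx⟩ : T) : Ω) ∈ P'),
      χ ⟨((α ⟨x, hPT hx⟩ : T) : Ω), hx'⟩ = ((α ⟨φ ⟨x, hx⟩, hφT ⟨x, hx⟩⟩ : T) : Ω) := by
    intro x hx hx'
    show ((α ⟨φ (k0.codRestrict P hk0P ⟨_, hx'⟩), _⟩ : T) : Ω) = _
    congr 3
    rw [hk0v x hx hx']
  refine ⟨χ, ⟨h2, hP'T, fun hcen' => ?_⟩, hχv⟩
  -- goodness
  have hPP' : F.IsConj P' P := by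
    refine ⟨k0, hk0, ?_⟩
    ext z
    constructor
    · rintro ⟨y, rfl⟩
      exact hk0P y
    · intro hz
      have hz' : ((α ⟨z, hPT hz⟩ : T) : Ω) ∈ P' := (hP' _).mpr ⟨z, hz, rfl⟩
      exact ⟨⟨_, hz'⟩, congrArg Subtype.val (hk0v z hz hz')⟩
  have hcen : ppnCen F T P := ppnCen_of_le F hcen' le_rfl hPP'
  obtain ⟨φh, hφh, hφext, hφtriv⟩ := hφ.2.2 hcen
  obtain ⟨A, hA, hAx⟩ := wne_aut_ext p F hF hT α hα
  have hXS : T ⊔ centralizerIn S T ≤ S := sup_le hTS inf_le_left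
  have hA' : A⁻¹ ∈ F.autGroup (T ⊔ centralizerIn S T) := Subgroup.inv_mem _ hA
  have hAF := (Fusion.mem_autGroup_iff F hXS A).mp hA
  have hA'F := (Fusion.mem_autGroup_iff F hXS A⁻¹).mp hA'
  have hleP : P ⊔ centralizerIn S T ≤ T ⊔ centralizerIn S T := sup_le_sup_right hPT _
  have hleP' : P' ⊔ centralizerIn S T ≤ T ⊔ centralizerIn S T := sup_le_sup_right hP'T _
  -- `A⁻¹` on `T`
  have hAinvT : ∀ (x : Ω) (hx : x ∈ P),
      A⁻¹ ⟨((α ⟨x, hPT hx⟩ : T) : Ω), Subgroup.mem_sup_left (α _).2⟩ =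
        ⟨x, Subgroup.mem_sup_left (hPT hx)⟩ := by
    intro x hx
    have h3 : (⟨((α ⟨x, hPT hx⟩ : T) : Ω), Subgroup.mem_sup_left (α _).2⟩ : ↥(T ⊔ centralizerIn S T)) =
        A ⟨x, Subgroup.mem_sup_left (hPT hx)⟩ :=
      Subtype.ext (hAx ⟨x, hPT hx⟩).symm
    rw [h3, MulAut.inv_apply_self]
  -- the map `A⁻¹ : P' centralizerIn S T → P centralizerIn S T`
  have hk := Fusion.restrict_mem F hA'F hleP'
  set k : ↥(P' ⊔ centralizerIn S T) →* Ω := ((T ⊔ centralizerIn S T).subtype.comp A⁻¹.toMonoidHom).comp (Subgroup.inclusion hleP')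
    with hkdef
  have hkP : ∀ y : ↥(P' ⊔ centralizerIn S T), k y ∈ P ⊔ centralizerIn S T := by
    apply Fusion.sup_map_mem
    · rintro ⟨z, hz⟩
      obtain ⟨x, hx, rfl⟩ := (hP' z).mp hz
      show ((A⁻¹ ⟨((α ⟨x, hPT hx⟩ : T) : Ω), _⟩ : ↥(T ⊔ centralizerIn S T)) : Ω) ∈ P ⊔ centralizerIn S T
      rw [hAinvT x hx]
      exact Subgroup.mem_sup_left hx
    · rintro ⟨c, hc⟩
      exact Subgroup.mem_sup_right
        (wne_aut_centralizer F hT A⁻¹ hA' ⟨c, Subgroup.mem_sup_right hc⟩ hc)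
  have h3 := F.comp_mem hk hφh hkP
  have h3X : ∀ y : ↥(P' ⊔ centralizerIn S T), (φh.comp (k.codRestrict (P ⊔ centralizerIn S T) hkP)) y ∈ T ⊔ centralizerIn S T := by
    intro y
    set w := k.codRestrict (P ⊔ centralizerIn S T) hkP y with hw
    have h4 : φh w = (w : Ω) * ((w : Ω)⁻¹ * φh w) := by group
    show φh w ∈ T ⊔ centralizerIn S T
    rw [h4]
    exact Subgroup.mul_mem _ (hleP w.2) (Subgroup.mem_sup_left (hφtriv w))
  have h4 := F.comp_mem h3 hAF h3X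
  refine ⟨_, h4, ?_, ?_⟩
  · rintro ⟨z, hz⟩
    obtain ⟨x, hx, rfl⟩ := (hP' z).mp hz
    rw [hχv x hx hz]
    show ((A ⟨φh (k.codRestrict (P ⊔ centralizerIn S T) hkP ⟨_, _⟩), _⟩ : ↥(T ⊔ centralizerIn S T)) : Ω) = _
    have h5 : k.codRestrict (P ⊔ centralizerIn S T) hkP (Subgroup.inclusion le_sup_left
        (⟨((α ⟨x, hPT hx⟩ : T) : Ω), hz⟩ : P')) = Subgroup.inclusion le_sup_left ⟨x, hx⟩ := by
      apply Subtype.ext
      show ((A⁻¹ ⟨((α ⟨x, hPT hx⟩ : T) : Ω), _⟩ : ↥(T ⊔ centralizerIn S T)) : Ω) = x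
      rw [hAinvT x hx]
    rw [← hAx ⟨φ ⟨x, hx⟩, hφT ⟨x, hx⟩⟩]
    congr 3
    exact (congrArg φh h5).trans (hφext ⟨x, hx⟩)
  · intro y
    set w := k.codRestrict (P ⊔ centralizerIn S T) hkP y with hw
    show (y : Ω)⁻¹ * ((A ⟨φh w, h3X y⟩ : ↥(T ⊔ centralizerIn S T)) : Ω) ∈ T
    -- `A w = y`
    have hAw : A ⟨(w : Ω), hleP w.2⟩ = Subgroup.inclusion hleP' y := by
      have : (⟨(w : Ω), hleP w.2⟩ : ↥(T ⊔ centralizerIn S T)) = A⁻¹ (Subgroup.inclusion hleP' y) := rfl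
      rw [this, MulAut.apply_inv_self]
    have h6 : (⟨φh w, h3X y⟩ : ↥(T ⊔ centralizerIn S T)) =
        ⟨(w : Ω), hleP w.2⟩ * ⟨(w : Ω)⁻¹ * φh w, Subgroup.mem_sup_left (hφtriv w)⟩ := by
      apply Subtype.ext
      show φh w = (w : Ω) * ((w : Ω)⁻¹ * φh w)
      group
    rw [h6, map_mul, hAw]
    show (y : Ω)⁻¹ * ((y : Ω) * _) ∈ T
    rw [inv_mul_cancel_left]
    exact Fusion.aut_mem_of_stronglyClosed F hXS hT A hA _ (hφtriv w)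

/-- The invariance clause of `IsInvariantIn` for `wneSys`. -/
theorem wneSys_invariance [Finite S] (p : ℕ) [Fact p.Prime] (F : FusionSystem S)
    (hF : F.IsSaturated p) (hT : F.StronglyClosed T) :
    ∀ (P : Subgroup Ω) (hPT : P ≤ T) (φ : P →* Ω), φ ∈ (wneSys F hT).Hom P → ∀ α ∈ F.autGroup T,
      ∃ χ ∈ (wneSys F hT).Hom ((P.subgroupOf T).map (T.subtype.comp α.toMonoidHom)),
        ∀ (x : P) (hφx : φ x ∈ T)
          (hαx : ((α ⟨x, hPT x.2⟩ : T) : Ω) ∈ (P.subgroupOf T).map (T.subtype.comp α.toMonoidHom)),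
          χ ⟨(α ⟨x, hPT x.2⟩ : T), hαx⟩ = ((α ⟨φ x, hφx⟩ : T) : Ω) := by
  intro P hPT φ hφ α hα
  have hP' : ∀ z, z ∈ (P.subgroupOf T).map (T.subtype.comp α.toMonoidHom) ↔
      ∃ (x : Ω) (hx : x ∈ P), ((α ⟨x, hPT hx⟩ : T) : Ω) = z := by
    intro z
    constructor
    · rintro ⟨t, ht, rfl⟩
      exact ⟨t.1, Subgroup.mem_subgroupOf.mp ht, rfl⟩
    · rintro ⟨x, hx, rfl⟩
      exact ⟨⟨x, hPT hx⟩, Subgroup.mem_subgroupOf.mpr hx, rfl⟩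
  obtain ⟨χ, hχ, hv⟩ := wne_transport p F hF hT hPT hφ α hα _ hP'
  exact ⟨χ, hχ, fun x hφx hαx => hv x.1 x.2 hαx⟩

end Cfsg.Agent.WNE
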