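import Mathlib
import Cfsg.Agent.PPN.Local
import Cfsg.Agent.PPN.ClaimC

set_option autoImplicit false

/-!
# S5141: `O^{p'}(E)` is invariant in `F`, part A

`wneRes F hT` is the restriction of `F` to the strongly closed subgroup `T`; `coreSys (wneRes F hT) X` is
then the largest subsystem of `X` stable under `Aut_F(T)`.  The systems `E0` and `E1` of the construction
of `O^{p'}(E)` are stable under `Aut_F(T)` when `E` is invariant in `F`.
-/

namespace Cfsg.Agent.WNE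

open Cfsg Cfsg.FusionSystem Cfsg.Agent.Lead Cfsg.Agent.Lead.StrongInv Cfsg.Agent.Lead.PrimeIdx
open Cfsg.Agent.Helper2.PPrimeRes Cfsg.Agent.PPN

variable {Ω : Type*} [Group Ω] {S T : Subgroup Ω}

/-- The restriction of `F` to the subgroups of the strongly closed subgroup `T`. -/
def wneRes (F : FusionSystem S) (hT : F.StronglyClosed T) : FusionSystem T where
  Hom P := {φ | φ ∈ F.Hom P ∧ P ≤ T}
  le_of_mem := fun {P φ} h => ⟨h.2, fun x => hT.2 P h.2 φ h.1 x⟩
  injective_of_mem := fun h => F.injective_of_mem h.1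
  conj_mem := fun {P g} hP hg => ⟨F.conj_mem (hP.trans hT.1) (hT.1 hg), hP⟩
  comp_mem := fun hφ hψ h => ⟨F.comp_mem hφ.1 hψ.1 h, hφ.2⟩
  inv_mem := by
    intro P φ hφ
    obtain ⟨ψ, hψ, hinv⟩ := F.inv_mem hφ.1
    refine ⟨ψ, ⟨hψ, ?_⟩, hinv⟩
    rintro _ ⟨x, rfl⟩
    exact hT.2 P hφ.2 φ hφ.1 x

theorem mem_wneRes (F : FusionSystem S) (hT : F.StronglyClosed T) {P : Subgroup Ω} (φ : P →* Ω) :
    φ ∈ (wneRes F hT).Hom P ↔ φ ∈ F.Hom P ∧ P ≤ T := Iff.rfl

theorem wneRes_le (F : FusionSystem S) (hT : F.StronglyClosed T) :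
    (wneRes F hT).IsSubsystemOf F := fun _ _ h => h.1

theorem le_wneRes (F : FusionSystem S) (hT : F.StronglyClosed T) (X : FusionSystem T)
    (hX : X.IsSubsystemOf F) : X.IsSubsystemOf (wneRes F hT) :=
  fun P _ h => ⟨hX P h, (X.le_of_mem h).1⟩

/-- A `p`-element of `Aut_E(R)` lies in the `Aut_F(T)`-stable core of `X`, if `X` contains all
`p`-elements of all `Aut_E(R')`. -/
theorem wne_pElement_mem_core (p : ℕ) (F : FusionSystem S) (hT : F.StronglyClosed T)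
    (E : FusionSystem T) (hE : E.IsInvariantIn F) (X : FusionSystem T)
    (hX : ∀ (R : Subgroup Ω), R ≤ T → ∀ θ : MulAut R, θ ∈ E.autGroup R → ∀ k : ℕ,
      orderOf θ = p ^ k → θ ∈ X.autGroup R)
    {R : Subgroup Ω} (hRT : R ≤ T) (θ : MulAut R) (hθ : θ ∈ E.autGroup R) (k : ℕ)
    (hk : orderOf θ = p ^ k) : θ ∈ (coreSys (wneRes F hT) X).autGroup R := by
  rw [Fusion.mem_autGroup_iff (coreSys (wneRes F hT) X) hRT]
  refine ⟨⟨hE.1 R ((Fusion.mem_autGroup_iff E hRT θ).mp hθ), hRT⟩, ?_⟩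
  intro hPS' hφS γ hγ
  have hres := Fusion.restrict_mem F hγ.1 hRT
  have hr := range_restrict hRT γ
  have hR'T : (R.subgroupOf T).map γ ≤ T := by
    rintro _ ⟨t, -, rfl⟩
    exact hT.2 T le_rfl γ hγ.1 t
  set e := Fusion.equivOfRange (γ.comp (Subgroup.inclusion hRT)) (F.injective_of_mem hres) hr
    with he
  have heI : Cfsg.Agent.Helper6.Bcglo.IsIso F e := by
    show ((R.subgroupOf T).map γ).subtype.comp e.toMonoidHom ∈ F.Hom R
    convert hres using 1
    ext x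
    rfl
  have hθ' : MulAut.congr e θ ∈ E.autGroup ((R.subgroupOf T).map γ) :=
    ppn_congr_mem F E (SI_of_invariant F E hE) hRT heI hθ
  have hord : orderOf (MulAut.congr e θ) = p ^ k := by
    rw [MulEquiv.orderOf_eq, hk]
  have hmem := hX _ hR'T _ hθ' k hord
  rw [Fusion.mem_autGroup_iff X hR'T] at hmem
  refine ⟨_, hmem, ?_⟩
  intro x hx
  show (((MulAut.congr e θ) ⟨γ (Subgroup.inclusion hRT x), hx⟩ : _) : Ω) = γ ⟨(θ x : R), hφS x⟩
  have h1 : (⟨γ (Subgroup.inclusion hRT x), hx⟩ : ((R.subgroupOf T).map γ : Subgroup Ω)) = e x :=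
    rfl
  rw [h1]
  have h2 : (MulAut.congr e θ) (e x) = e (θ x) := by
    simp [MulAut.congr]
  rw [h2]
  rfl

/-- The `Aut_F(T)`-stable core of a subsystem `X ≤ E` containing all `p`-elements has index prime to
`p` in `E`. -/
theorem wne_core_index (p : ℕ) (F : FusionSystem S) (hT : F.StronglyClosed T)
    (E : FusionSystem T) (hE : E.IsInvariantIn F) (X : FusionSystem T) (hXE : X.IsSubsystemOf E)
    (hX : ∀ (R : Subgroup Ω), R ≤ T → ∀ θ : MulAut R, θ ∈ E.autGroup R → ∀ k : ℕ,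
      orderOf θ = p ^ k → θ ∈ X.autGroup R) :
    (coreSys (wneRes F hT) X).HasPrimeToPIndexIn E p := by
  refine ⟨fun P φ h => hXE P (coreSys_sub _ X P h), fun P hPT => ?_⟩
  rw [Subgroup.map_le_iff_le_comap, Subgroup.closure_le]
  rintro ⟨α, hα⟩ ⟨k, hk⟩
  show α ∈ (coreSys (wneRes F hT) X).autGroup P
  apply wne_pElement_mem_core p F hT E hE X hX hPT α hα k
  rw [← hk, Subgroup.orderOf_mk]

/-- `E0` is stable under `Aut_F(T)`. -/
theorem wne_E0_le_core (p : ℕ) (F : FusionSystem S) (hT : F.StronglyClosed T)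
    (E : FusionSystem T) (hE : E.IsInvariantIn F) :
    (E0 p E).IsSubsystemOf (coreSys (wneRes F hT) (E0 p E)) :=
  E0_le_of p E (wne_core_index p F hT E hE (E0 p E) (E0_le p E)
    (fun _ hRT θ hθ k hk => pElement_mem_E0 p E hRT θ hθ k hk))

/-- `E1 = E0` on maps, when `E` is invariant in `F`. -/
theorem wne_E0_le_E1 (p : ℕ) (F : FusionSystem S) (hT : F.StronglyClosed T)
    (E : FusionSystem T) (hE : E.IsInvariantIn F) (P : Subgroup Ω) :
    (E0 p E).Hom P ⊆ (E1 p E).Hom P := by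
  intro φ hφ
  refine ⟨E0_le p E P hφ, ?_⟩
  intro hPS hφS γ hγ
  exact (wne_E0_le_core p F hT E hE P hφ).2 hPS hφS γ ⟨hE.1 T hγ, le_rfl⟩

/-- `E1` is stable under `Aut_F(T)`. -/
theorem wne_SItop_E1 (p : ℕ) (F : FusionSystem S) (hT : F.StronglyClosed T)
    (E : FusionSystem T) (hE : E.IsInvariantIn F) : SItop (wneRes F hT) (E1 p E) := by
  intro P hPT φ hφ hφT ψ hψ
  have h0 : φ ∈ (E0 p E).Hom P := E1_le_E0 p E P hφ
  obtain ⟨χ, hχ, hv⟩ := (wne_E0_le_core p F hT E hE P h0).2 hPT hφT ψ hψ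
  exact ⟨χ, wne_E0_le_E1 p F hT E hE _ hχ, hv⟩

end Cfsg.Agent.WNE
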