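import Mathlib
import Cfsg.Agent.PPN.ClaimC

set_option autoImplicit false

/-!
# S5141: the twist step of CLAIM*

`a ∈ Aut_F(T)`, `P < T` in the class `ppnCen`, `ψ` a map of the invariant system `G` on `N_T(P)` agreeing
with `a` on `P`: then `a ^ |T|` restricts to a map of `G` on a subgroup `R` of the class with `|R| > |P|`.
-/

namespace Cfsg.Agent.WNE

open Cfsg Cfsg.FusionSystem Cfsg.Agent.Lead Cfsg.Agent.Lead.StrongInv
open Cfsg.Agent.Helper2.PPrimeRes Cfsg.Agent.PPN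

variable {Ω : Type*} [Group Ω] {S T : Subgroup Ω}

theorem wne_twist_aux [Finite S] (p : ℕ) [Fact p.Prime] (hS : IsPGroup p S) (F : FusionSystem S)
    (G : FusionSystem T) (hG : G.IsInvariantIn F) (a : MulAut T) (haF : a ∈ F.autGroup T)
    {P : Subgroup Ω} (hPT : P ≤ T) (hcen : ppnCen F T P)
    (N : Subgroup Ω) (hPN : P ≤ N) (hNT : N ≤ T)
    (hNn : N ≤ Subgroup.normalizer (P : Set Ω)) (hlt : Nat.card P < Nat.card N)
    (ψ : N →* Ω) (hψ : ψ ∈ G.Hom N)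
    (hψP : ∀ (y : N) (_ : (y : Ω) ∈ P), ψ y = ((a ⟨y, hNT y.2⟩ : T) : Ω)) :
    ∃ (R : Subgroup Ω) (hRT : R ≤ T), ppnCen F T R ∧ Nat.card P < Nat.card R ∧
      resAutS hRT (a ^ Nat.card T) ∈ G.Hom R := by
  have hTS : T ≤ S := hG.2.1.1
  have hfinT : Finite T := Fusion.finite_of_le hTS
  have hT : IsPGroup p T := hS.to_le hTS
  have hfinN : Finite N := Fusion.finite_of_le (hNT.trans hTS)
  have hψT : ∀ y : N, ψ y ∈ T := (G.le_of_mem hψ).2
  set ψT : N →* T := ψ.codRestrict T hψT with hψTdef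
  have hψTP : ∀ (y : N) (_ : (y : Ω) ∈ P), ψT y = a ⟨y, hNT y.2⟩ :=
    fun y hy => Subtype.ext (hψP y hy)
  set ψ' : N →* T := a⁻¹.toMonoidHom.comp ψT with hψ'def
  have hψ'a : ∀ u : N, a (ψ' u) = ψT u := fun u => MulAut.apply_inv_self _ _ _
  -- `u⁻¹ ψ'(u)` lies in `P`
  have hc : ∀ u : N, (((Subgroup.inclusion hNT u)⁻¹ * ψ' u : T) : Ω) ∈ P := by
    intro u
    apply hcen P (Fusion.isConj_refl F (hPT.trans hTS))
    refine Subgroup.mem_inf.mpr ⟨((Subgroup.inclusion hNT u)⁻¹ * ψ' u : T).2, ?_⟩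
    rw [Subgroup.mem_centralizer_iff]
    intro y hy
    have hun : (u : Ω) * y * (u : Ω)⁻¹ ∈ P := by
      have := (Subgroup.mem_normalizer_iff.mp (hNn u.2)) y
      exact this.mp hy
    have key : a (Subgroup.inclusion hNT u) * a ⟨y, hPT hy⟩ * (a (Subgroup.inclusion hNT u))⁻¹ =
        ψT u * a ⟨y, hPT hy⟩ * (ψT u)⁻¹ := by
      have h1 := hψTP (u * ⟨y, hPN hy⟩ * u⁻¹) hun
      have h2 := hψTP ⟨y, hPN hy⟩ hy
      rw [map_mul, map_mul, map_inv, h2] at h1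
      rw [h1, ← map_inv, ← map_mul, ← map_mul]
      rfl
    have hcomm : ((a (Subgroup.inclusion hNT u))⁻¹ * ψT u) * a ⟨y, hPT hy⟩ =
        a ⟨y, hPT hy⟩ * ((a (Subgroup.inclusion hNT u))⁻¹ * ψT u) := by
      calc ((a (Subgroup.inclusion hNT u))⁻¹ * ψT u) * a ⟨y, hPT hy⟩
          = (a (Subgroup.inclusion hNT u))⁻¹ * (ψT u * a ⟨y, hPT hy⟩ * (ψT u)⁻¹) * ψT u := by
            group
        _ = (a (Subgroup.inclusion hNT u))⁻¹ * (a (Subgroup.inclusion hNT u) * a ⟨y, hPT hy⟩ *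
              (a (Subgroup.inclusion hNT u))⁻¹) * ψT u := by rw [key]
        _ = a ⟨y, hPT hy⟩ * ((a (Subgroup.inclusion hNT u))⁻¹ * ψT u) := by group
    have h3 : a (((Subgroup.inclusion hNT u)⁻¹ * ψ' u) * ⟨y, hPT hy⟩) =
        a (⟨y, hPT hy⟩ * ((Subgroup.inclusion hNT u)⁻¹ * ψ' u)) := by
      simp only [map_mul, map_inv, hψ'a]
      exact hcomm
    have h4 := a.injective h3
    exact (congrArg Subtype.val h4).symm
  -- the endomorphism `f` of `N`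
  have hfN : ∀ u : N, (T.subtype.comp ψ') u ∈ N := by
    intro u
    have h1 := hPN (hc u)
    have h2 : (T.subtype.comp ψ') u = (u : Ω) * (((Subgroup.inclusion hNT u)⁻¹ * ψ' u : T) : Ω) := by
      show ((ψ' u : T) : Ω) = _
      simp
    rw [h2]
    exact N.mul_mem u.2 h1
  set f : N →* N := (T.subtype.comp ψ').codRestrict N hfN with hfdef
  have hfψ' : ∀ u : N, Subgroup.inclusion hNT (f u) = ψ' u := fun u => Subtype.ext rfl
  have hf : ∀ u : N, ψ u = ((a (Subgroup.inclusion hNT (f u)) : T) : Ω) := by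
    intro u
    rw [hfψ', hψ'a]
    rfl
  have hfix : ∀ u : N, f (u⁻¹ * f u) = u⁻¹ * f u := by
    intro u
    have hcP : ((u⁻¹ * f u : N) : Ω) ∈ P := hc u
    have h1 := hψTP (u⁻¹ * f u) hcP
    have h2 : ψ' (u⁻¹ * f u) = ⟨_, hNT (u⁻¹ * f u).2⟩ := by
      show a⁻¹ (ψT (u⁻¹ * f u)) = _
      rw [h1, MulAut.inv_apply_self]
    apply Subtype.ext
    show ((ψ' (u⁻¹ * f u) : T) : Ω) = _
    rw [h2]
  set J := Nat.card T with hJdef
  have hJpos : 0 < J := Nat.card_pos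
  have hfJ : ∀ u : N, f^[J] u = u := by
    apply ppn_iterate_eq f hfix J
    intro u
    obtain ⟨m, hm⟩ := Subgroup.card_dvd_of_le hNT
    rw [hJdef, hm, pow_mul, pow_card_eq_one', one_pow]
  obtain ⟨R, hRT, ρ, hρ, hmem, hval⟩ := ppn_pow_formula F G hG a haF hNT hψ f hf (J - 1)
  have hJ1 : J - 1 + 1 = J := Nat.sub_add_cancel hJpos
  have hres : resAutS hRT (a ^ J) ∈ G.Hom R := by
    convert hρ using 1
    ext x
    have hu : (((a ^ (J - 1)) ⟨x.1, hRT x.2⟩ : T) : Ω) ∈ N := (hmem _).mp x.2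
    have h1 := hval ⟨x.1, hRT x.2⟩ x.2 ⟨_, hu⟩ rfl
    rw [hJ1, hfJ] at h1
    rw [show ρ x = ρ ⟨(⟨x.1, hRT x.2⟩ : T), x.2⟩ from rfl, h1, resAutS_apply]
    conv_lhs => rw [← hJ1, pow_succ', MulAut.mul_apply]
    rfl
  have hRN : F.IsConj R N := by
    have haiF : a ^ (J - 1) ∈ F.autGroup T := (F.autGroup T).pow_mem haF _
    have h1 := (Fusion.mem_autGroup_iff F hTS _).mp haiF
    have h2 := Fusion.restrict_mem F h1 hRT
    refine ⟨_, h2, ?_⟩
    ext y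
    constructor
    · rintro ⟨x, rfl⟩
      exact (hmem ⟨x.1, hRT x.2⟩).mp x.2
    · intro hy
      have hmem' : (((a ^ (J - 1))⁻¹ ⟨y, hNT hy⟩ : T) : Ω) ∈ R := by
        rw [hmem, MulAut.apply_inv_self]
        exact hy
      refine ⟨⟨_, hmem'⟩, ?_⟩
      show (((a ^ (J - 1)) ((a ^ (J - 1))⁻¹ ⟨y, hNT hy⟩) : T) : Ω) = y
      rw [MulAut.apply_inv_self]
  have hRcen : ppnCen F T R := ppnCen_of_le F hcen hPN (Fusion.isConj_symm F hRN)
  have hcard : Nat.card R = Nat.card N := Fusion.card_eq_of_isConj F hRN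
  exact ⟨R, hRT, hRcen, hcard ▸ hlt, hres⟩

theorem wne_twist [Finite S] (p : ℕ) [Fact p.Prime] (hS : IsPGroup p S) (F : FusionSystem S)
    (G : FusionSystem T) (hG : G.IsInvariantIn F) (a : MulAut T) (haF : a ∈ F.autGroup T)
    {P : Subgroup Ω} (hPT : P ≤ T) (hcen : ppnCen F T P) (hPeq : P ≠ T)
    (ψ : ↥(normalizerIn T P) →* Ω) (hψ : ψ ∈ G.Hom (normalizerIn T P))
    (hψP0 : ∀ (y : Ω) (hy : y ∈ P) (hyN : y ∈ normalizerIn T P),
      ψ ⟨y, hyN⟩ = ((a ⟨y, hPT hy⟩ : T) : Ω)) :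
    ∃ (R : Subgroup Ω) (hRT : R ≤ T), ppnCen F T R ∧ Nat.card P < Nat.card R ∧
      resAutS hRT (a ^ Nat.card T) ∈ G.Hom R := by
  have hTS : T ≤ S := hG.2.1.1
  have hfinT : Finite T := Fusion.finite_of_le hTS
  have hT : IsPGroup p T := hS.to_le hTS
  exact wne_twist_aux p hS F G hG a haF hPT hcen (normalizerIn T P) (Fusion.le_normalizerIn hPT)
    inf_le_left inf_le_right (Fusion.card_lt_card_normalizerIn hT hPT hPeq) ψ hψ
    (fun y hy => hψP0 y.1 hy y.2)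

end Cfsg.Agent.WNE
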