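import Mathlib
import Cfsg.Agent.PPN.ClaimC

set_option autoImplicit false

/-!
# S5141: the WLOG step of CLAIM*

`a ∈ Aut_F(T)` with `a|_P` in the invariant system `G`: after conjugating `a` by some `g ∈ Aut_F(T)` and
replacing `P` by a subgroup of the same order, the image of `P` is fully `F`-normalized.
-/

namespace Cfsg.Agent.WNE

open Cfsg Cfsg.FusionSystem Cfsg.Agent.Lead Cfsg.Agent.Lead.StrongInv
open Cfsg.Agent.Helper2.PPrimeRes Cfsg.Agent.PPN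

variable {Ω : Type*} [Group Ω] {S T : Subgroup Ω}

theorem wne_wlog [Finite S] (F : FusionSystem S) (G : FusionSystem T) (hG : G.IsInvariantIn F)
    (a : MulAut T) (ha : a ∈ F.autGroup T) {P : Subgroup Ω} (hPT : P ≤ T) (hcen : ppnCen F T P)
    (hres : resAutS hPT a ∈ G.Hom P) :
    ∃ g ∈ F.autGroup T, ∃ (P1 : Subgroup Ω) (hP1T : P1 ≤ T), ppnCen F T P1 ∧
      Nat.card P1 = Nat.card P ∧ resAutS hP1T (g * a * g⁻¹) ∈ G.Hom P1 ∧
      F.IsFullyNormalized (resAutS hP1T (g * a * g⁻¹)).range := by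
  have hTS : T ≤ S := hG.2.1.1
  have hGF : G.IsSubsystemOf F := hG.1
  have hφaF : resAutS hPT a ∈ F.Hom P := hGF P hres
  have hP'T : (resAutS hPT a).range ≤ T := Fusion.range_le G hres
  have hP'S : (resAutS hPT a).range ≤ S := hP'T.trans hTS
  obtain ⟨P'', ⟨φ, hφ, hr⟩, hfn⟩ := Fusion.exists_isConj_fullyNormalized F hP'S
  obtain ⟨g, hg, ε, hε, hv⟩ := hG.2.2.2 (resAutS hPT a).range hP'T φ hφ
  have hεT : ∀ x, ε x ∈ T := (G.le_of_mem hε).2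
  -- Step 1: transport `ε` by `a⁻¹`
  obtain ⟨R', hR'T, χ, hχ, hmem', hval'⟩ :=
    ppn_transport F G hG hP'T hε a⁻¹ ((F.autGroup T).inv_mem ha)
  have hPR' : P = R' := by
    ext z
    constructor
    · intro hz
      have h1 : ((a ⟨z, hPT hz⟩ : T) : Ω) ∈ (resAutS hPT a).range := ⟨⟨z, hz⟩, rfl⟩
      have h2 := (hmem' (a ⟨z, hPT hz⟩)).mpr h1
      rwa [MulAut.inv_apply_self] at h2
    · intro hz
      have h0 : ((a⁻¹ (a ⟨z, hR'T hz⟩) : T) : Ω) ∈ R' := by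
        rw [MulAut.inv_apply_self]; exact hz
      obtain ⟨u, hu⟩ := (hmem' (a ⟨z, hR'T hz⟩)).mp h0
      have h3 : (⟨u.1, hPT u.2⟩ : T) = ⟨z, hR'T hz⟩ := a.injective (Subtype.ext hu)
      have h4 : (u : Ω) = z := congrArg Subtype.val h3
      exact h4 ▸ u.2
  subst hPR'
  -- the key identity `a (χ x) = ε (a x)`
  have hφamem : ∀ x : P, resAutS hPT a x ∈ (resAutS hPT a).range := fun x => ⟨x, rfl⟩
  have hχT : ∀ x : P, χ x ∈ T := (G.le_of_mem hχ).2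
  have hK : ∀ x : P, a ⟨χ x, hχT x⟩ = ⟨ε ⟨resAutS hPT a x, hφamem x⟩, hεT _⟩ := by
    intro x
    have h1 := hval' (a ⟨x.1, hPT x.2⟩) (hφamem x) x (by rw [MulAut.inv_apply_self])
    have h2 : (⟨χ x, hχT x⟩ : T) = a⁻¹ ⟨ε ⟨resAutS hPT a x, hφamem x⟩, hεT _⟩ := Subtype.ext h1
    rw [h2, MulAut.apply_inv_self]
  -- `a` restricted to `P2 = χ(P)` is a map of `G`
  obtain ⟨χ', hχ', hχ'inv, hχ'r⟩ := Fusion.exists_inv G hχ rfl
  have hχ'P : ∀ y : χ.range, χ' y ∈ P := fun y => hχ'r.le ⟨y, rfl⟩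
  have hb := G.comp_mem hres hε hφamem
  have hc := G.comp_mem hχ' hb hχ'P
  have hP2T : χ.range ≤ T := Fusion.range_le G hχ
  have hres2 : resAutS hP2T a ∈ G.Hom χ.range := by
    convert hc using 1
    ext ⟨y, x, rfl⟩
    have h1 : χ' ⟨χ x, ⟨x, rfl⟩⟩ = (x : Ω) := hχ'inv x ⟨x, rfl⟩
    have h2 : (χ'.codRestrict P hχ'P) ⟨χ x, ⟨x, rfl⟩⟩ = x := Subtype.ext h1
    show ((a ⟨χ x, _⟩ : T) : Ω) = ε ((resAutS hPT a).codRestrict _ hφamem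
      ((χ'.codRestrict P hχ'P) ⟨χ x, ⟨x, rfl⟩⟩))
    rw [h2]
    exact congrArg Subtype.val (hK x)
  -- Step 2: transport by `g`
  obtain ⟨P1, hP1T, χ₂, hχ₂, hmem₂, hval₂⟩ := ppn_transport F G hG hP2T hres2 g hg
  have hval1 : ∀ y : P1, ∃ x : P, (g ⟨χ x, hχT x⟩ : T) = ⟨y.1, hP1T y.2⟩ ∧
      resAutS hP1T (g * a * g⁻¹) y = φ ⟨resAutS hPT a x, hφamem x⟩ ∧
      χ₂ y = φ ⟨resAutS hPT a x, hφamem x⟩ := by
    intro y
    have hz : ((g⁻¹ ⟨y.1, hP1T y.2⟩ : T) : Ω) ∈ χ.range := by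
      apply (hmem₂ _).mp
      rw [MulAut.apply_inv_self]
      exact y.2
    obtain ⟨x, hx⟩ := hz
    have hx' : (⟨χ x, hχT x⟩ : T) = g⁻¹ ⟨y.1, hP1T y.2⟩ := Subtype.ext hx
    have hgx : (g ⟨χ x, hχT x⟩ : T) = ⟨y.1, hP1T y.2⟩ := by rw [hx', MulAut.apply_inv_self]
    have hφx : φ ⟨resAutS hPT a x, hφamem x⟩ = ((g (a ⟨χ x, hχT x⟩) : T) : Ω) := by
      rw [hv _ (hεT _), hK x]
    refine ⟨x, hgx, ?_, ?_⟩
    · rw [hφx, resAutS_apply, MulAut.mul_apply, MulAut.mul_apply, ← hx']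
    · rw [hφx]
      have := hval₂ ⟨χ x, hχT x⟩ ⟨x, rfl⟩ y (by rw [hgx])
      rw [this]
      rfl
  have hres1 : resAutS hP1T (g * a * g⁻¹) ∈ G.Hom P1 := by
    convert hχ₂ using 1
    ext y
    obtain ⟨x, -, h1, h2⟩ := hval1 y
    rw [h1, h2]
  have hrange : (resAutS hP1T (g * a * g⁻¹)).range = P'' := by
    rw [← hr]
    ext w
    constructor
    · rintro ⟨y, rfl⟩
      obtain ⟨x, -, h1, -⟩ := hval1 y
      rw [h1]
      exact ⟨_, rfl⟩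
    · rintro ⟨⟨_, x, rfl⟩, rfl⟩
      have hy : ((g ⟨χ x, hχT x⟩ : T) : Ω) ∈ P1 := (hmem₂ _).mpr ⟨x, rfl⟩
      refine ⟨⟨_, hy⟩, ?_⟩
      rw [hv _ (hεT _), ← hK x, resAutS_apply, MulAut.mul_apply, MulAut.mul_apply,
        MulAut.inv_apply_self]
  have hconj : F.IsConj P P1 :=
    Fusion.isConj_trans F (Fusion.isConj_trans F ⟨_, hφaF, rfl⟩ ⟨φ, hφ, hr⟩)
      (Fusion.isConj_symm F ⟨_, hGF _ hres1, hrange⟩)
  refine ⟨g, hg, P1, hP1T, ppnCen_of_le F hcen le_rfl hconj,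
    (Fusion.card_eq_of_isConj F hconj).symm, hres1, ?_⟩
  rw [hrange]
  exact hfn

end Cfsg.Agent.WNE
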