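import Mathlib
import Cfsg.Agent.PPN.ClaimC
import Cfsg.Agent.Lead.FusionStrongInvD
import Cfsg.Agent.WNE.ClaimA
import Cfsg.Agent.WNE.ClaimB

set_option autoImplicit false
set_option linter.unusedVariables false

/-!
# S5141: CLAIM*, abstract form

`G` a fusion system over `T` invariant in the saturated system `F`, with the extension property `hext`
(step 3(B)): an element `a` of `Aut_F(T)` whose restriction to a subgroup `P` of the class `ppnCen` is a
map of `G` has a `p`-power power in `Aut_G(T)`.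
-/

namespace Cfsg.Agent.WNE

open Cfsg Cfsg.FusionSystem Cfsg.Agent.Lead Cfsg.Agent.Lead.StrongInv
open Cfsg.Agent.Helper2.PPrimeRes Cfsg.Agent.PPN

variable {Ω : Type*} [Group Ω] {S T : Subgroup Ω}

theorem wne_claim [Finite S] (p : ℕ) [Fact p.Prime] (hS : IsPGroup p S) (F : FusionSystem S)
    (hF : F.IsSaturated p) (G : FusionSystem T) (hG : G.IsInvariantIn F)
    (hext : ∀ (a : MulAut T), a ∈ F.autGroup T → ∀ (P : Subgroup Ω) (hPT : P ≤ T), ppnCen F T P → P ≠ T →
      resAutS hPT a ∈ G.Hom P → F.IsFullyNormalized (resAutS hPT a).range →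
      ∃ ψ ∈ G.Hom (normalizerIn T P), ∀ (y : Ω) (hy : y ∈ P) (hyN : y ∈ normalizerIn T P),
        ψ ⟨y, hyN⟩ = ((a ⟨y, hPT hy⟩ : T) : Ω))
    (a : MulAut T) (ha : a ∈ F.autGroup T) (P : Subgroup Ω) (hPT : P ≤ T) (hP : ppnCen F T P)
    (hres : resAutS hPT a ∈ G.Hom P) : ∃ k : ℕ, a ^ (p ^ k) ∈ G.autGroup T := by
  have hTS : T ≤ S := hG.2.1.1
  have hfinT : Finite T := Fusion.finite_of_le hTS
  have hT : IsPGroup p T := hS.to_le hTS
  have key : ∀ (n : ℕ) (a : MulAut T), a ∈ F.autGroup T → ∀ (P : Subgroup Ω) (hPT : P ≤ T),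
      ppnCen F T P → resAutS hPT a ∈ G.Hom P → Nat.card T - Nat.card P = n →
      ∃ k : ℕ, a ^ (p ^ k) ∈ G.autGroup T := by
    intro n
    induction n using Nat.strong_induction_on with
    | _ n ih =>
    intro a ha P hPT hP hres hn
    by_cases hPeq : P = T
    · subst hPeq
      refine ⟨0, ?_⟩
      rw [pow_zero, pow_one, Fusion.mem_autGroup_iff G le_rfl]
      convert hres using 1
      ext x
      rfl
    obtain ⟨g, hg, P1, hP1T, hP1, hcard1, hres1, hfn1⟩ := wne_wlog F G hG a ha hPT hP hres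
    have hfinP : Finite P := Fusion.finite_of_le (hPT.trans hTS)
    have hfinP1 : Finite P1 := Fusion.finite_of_le (hP1T.trans hTS)
    have hP1ne : P1 ≠ T := by
      intro h
      apply hPeq
      apply Subgroup.eq_of_le_of_card_ge hPT
      rw [← hcard1, h]
    have ha1 : g * a * g⁻¹ ∈ F.autGroup T :=
      (F.autGroup T).mul_mem ((F.autGroup T).mul_mem hg ha) ((F.autGroup T).inv_mem hg)
    obtain ⟨ψ, hψ, hψP⟩ := hext (g * a * g⁻¹) ha1 P1 hP1T hP1 hP1ne hres1 hfn1
    obtain ⟨R, hRT, hRcen, hlt, hresR⟩ :=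
      wne_twist p hS F G hG (g * a * g⁻¹) ha1 hP1T hP1 hP1ne ψ hψ hψP
    have hlt' : Nat.card T - Nat.card R < n := by
      have h1 : Nat.card R ≤ Nat.card T := Subgroup.card_le_of_le hRT
      omega
    obtain ⟨k', hk'⟩ := ih _ hlt' ((g * a * g⁻¹) ^ Nat.card T)
      ((F.autGroup T).pow_mem ha1 _) R hRT hRcen hresR rfl
    obtain ⟨n', hn'⟩ := IsPGroup.exists_card_eq hT
    refine ⟨n' + k', ?_⟩
    have h1 : (g * a * g⁻¹) ^ (p ^ (n' + k')) ∈ G.autGroup T := by
      rw [pow_add, pow_mul, ← hn']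
      exact hk'
    have h2 : a ^ (p ^ (n' + k')) = g⁻¹ * (g * a * g⁻¹) ^ (p ^ (n' + k')) * g⁻¹⁻¹ := by
      rw [conj_pow]
      group
    rw [h2]
    exact conj_mem_autGroup F G (SI_of_invariant F G hG) hTS le_rfl g⁻¹ _
      ((F.autGroup T).inv_mem hg) h1
  exact key _ a ha P hPT hP hres rfl

end Cfsg.Agent.WNE
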