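import Mathlib
import Cfsg.Agent.WNE.Basic
import Cfsg.Agent.Helper9.Core

set_option autoImplicit false

/-!
# S5141, Step 3(B), auxiliary lemmas

`C_S(T)` is normal in `S`; the Dedekind identity `(A C_S(T)) ∩ T = A` for `A ≤ T` containing its
centralizer in `T`; `A C_S(T)` is fully normalized when `A` is; automorphisms stabilizing the chain
`1 ≤ Q ∩ T ≤ Q` of a fully automized `Q` are induced by `S`.
-/

namespace Cfsg.Agent.WNE

open Cfsg Cfsg.FusionSystem Cfsg.Agent.Lead Cfsg.Agent.Lead.StrongInv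
open Cfsg.Agent.Helper2.PPrimeRes Cfsg.Agent.PPN
open scoped Pointwise

variable {Ω : Type*} [Group Ω] {S T : Subgroup Ω}

/-- `C_S(T)` is normalized by `S`. -/
theorem wne_centralizer_conj_mem (F : FusionSystem S) (hT : F.StronglyClosed T) {s c : Ω}
    (hs : s ∈ S) (hc : c ∈ centralizerIn S T) : s * c * s⁻¹ ∈ centralizerIn S T := by
  obtain ⟨hcS, hcC⟩ := Subgroup.mem_inf.mp hc
  refine Subgroup.mem_inf.mpr ⟨S.mul_mem (S.mul_mem hs hcS) (S.inv_mem hs), ?_⟩
  rw [Subgroup.mem_centralizer_iff] at hcC ⊢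
  intro t ht
  have ht' : s⁻¹ * t * s ∈ T := wne_conj_mem' F hT hs ht
  have h1 := hcC _ ht'
  calc t * (s * c * s⁻¹) = s * ((s⁻¹ * t * s) * c) * s⁻¹ := by group
    _ = s * (c * (s⁻¹ * t * s)) * s⁻¹ := by rw [h1]
    _ = s * c * s⁻¹ * t := by group

theorem wne_le_normalizer_centralizer (F : FusionSystem S) (hT : F.StronglyClosed T) :
    S ≤ Subgroup.normalizer (centralizerIn S T : Set Ω) := by
  intro s hs
  apply mem_normalizer_of_conj_mem
  · intro y hy
    exact wne_centralizer_conj_mem F hT hs hy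
  · intro y hy
    have := wne_centralizer_conj_mem F hT (S.inv_mem hs) hy
    rwa [inv_inv] at this

/-- An element normalizing `A` and `B` normalizes `A ⊔ B`. -/
theorem wne_mem_normalizer_sup {G : Type*} [Group G] {A B : Subgroup G} {g : G}
    (hA : g ∈ Subgroup.normalizer (A : Set G)) (hB : g ∈ Subgroup.normalizer (B : Set G)) :
    g ∈ Subgroup.normalizer ((A ⊔ B : Subgroup G) : Set G) := by
  have key : ∀ k : G, k ∈ Subgroup.normalizer (A : Set G) → k ∈ Subgroup.normalizer (B : Set G) →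
      ∀ y ∈ A ⊔ B, k * y * k⁻¹ ∈ A ⊔ B := by
    intro k hkA hkB
    have hle : A ⊔ B ≤ (A ⊔ B).comap (MulAut.conj k).toMonoidHom := by
      apply sup_le
      · intro y hy
        rw [Subgroup.mem_comap]
        exact Subgroup.mem_sup_left ((Subgroup.mem_normalizer_iff.mp hkA y).mp hy)
      · intro y hy
        rw [Subgroup.mem_comap]
        exact Subgroup.mem_sup_right ((Subgroup.mem_normalizer_iff.mp hkB y).mp hy)
    intro y hy
    exact hle hy
  apply mem_normalizer_of_conj_mem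
  · exact key g hA hB
  · intro y hy
    have := key g⁻¹ (Subgroup.inv_mem _ hA) (Subgroup.inv_mem _ hB) y hy
    rwa [inv_inv] at this

/-- Elements of `A C_S(T)` are products. -/
theorem wne_mem_sup_centralizer (F : FusionSystem S) (hT : F.StronglyClosed T) {A : Subgroup Ω}
    (hAS : A ≤ S) {y : Ω} (hy : y ∈ A ⊔ centralizerIn S T) :
    ∃ x ∈ A, ∃ c ∈ centralizerIn S T, y = x * c := by
  have hmul : y ∈ (A : Set Ω) * (centralizerIn S T : Set Ω) := by
    rw [← Subgroup.coe_mul_of_left_le_normalizer_right A _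
      (hAS.trans (wne_le_normalizer_centralizer F hT))]
    exact hy
  obtain ⟨x, hx, c, hc, hxc⟩ := Set.mem_mul.mp hmul
  exact ⟨x, hx, c, hc, hxc.symm⟩

/-- Dedekind: `(A C_S(T)) ∩ T = A` when `A ≤ T` contains its centralizer in `T`. -/
theorem wne_inf_le (F : FusionSystem S) (hT : F.StronglyClosed T) {A : Subgroup Ω} (hAT : A ≤ T)
    (hcen : centralizerIn T A ≤ A) {y : Ω} (hy : y ∈ A ⊔ centralizerIn S T) (hyT : y ∈ T) :
    y ∈ A := by
  obtain ⟨x, hx, c, hc, rfl⟩ := wne_mem_sup_centralizer F hT (hAT.trans hT.1) hy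
  have hcT : c ∈ T := by
    have : c = x⁻¹ * (x * c) := by group
    rw [this]
    exact T.mul_mem (T.inv_mem (hAT hx)) hyT
  have hcA : c ∈ A := by
    apply hcen
    refine Subgroup.mem_inf.mpr ⟨hcT, ?_⟩
    exact Subgroup.centralizer_le (show (A : Set Ω) ⊆ T from hAT) (Subgroup.mem_inf.mp hc).2
  exact A.mul_mem hx hcA

/-- A map of `F` reflects membership in a strongly closed subgroup. -/
theorem wne_mem_of_map_mem (F : FusionSystem S) (hT : F.StronglyClosed T) {M : Subgroup Ω}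
    {θ : M →* Ω} (hθ : θ ∈ F.Hom M) (y : M) (hy : θ y ∈ T) : (y : Ω) ∈ T := by
  obtain ⟨χ, hχ, hinv, -⟩ := Fusion.exists_inv F hθ rfl
  have h1 := Fusion.map_mem_of_stronglyClosed F hT hχ ⟨θ y, ⟨y, rfl⟩⟩ hy
  rwa [hinv y ⟨y, rfl⟩] at h1

/-- `A C_S(T)` is fully normalized when `A ≤ T` is fully normalized and in the class. -/
theorem wne_fullyNormalized_sup [Finite S] (F : FusionSystem S) (hT : F.StronglyClosed T)
    {A : Subgroup Ω} (hAT : A ≤ T) (hcen : centralizerIn T A ≤ A) (hfn : F.IsFullyNormalized A) :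
    F.IsFullyNormalized (A ⊔ centralizerIn S T) := by
  have hTS : T ≤ S := hT.1
  have hAS : A ≤ S := hAT.trans hTS
  have hQS : A ⊔ centralizerIn S T ≤ S := sup_le hAS inf_le_left
  have hAQ : A ≤ A ⊔ centralizerIn S T := le_sup_left
  refine ⟨hQS, ?_⟩
  rintro Q'' ⟨θ, hθ, rfl⟩
  -- the image of `A`
  have hθA := Fusion.restrict_mem F hθ hAQ
  set A'' : Subgroup Ω := (θ.comp (Subgroup.inclusion hAQ)).range with hA''
  have h1 : Nat.card (normalizerIn S A'') ≤ Nat.card (normalizerIn S A) :=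
    hfn.2 A'' ⟨_, hθA, rfl⟩
  -- `A'' = θ.range ⊓ T`
  have hA''eq : A'' = θ.range ⊓ T := by
    ext z
    constructor
    · rintro ⟨x, rfl⟩
      refine Subgroup.mem_inf.mpr ⟨⟨_, rfl⟩, ?_⟩
      exact Fusion.map_mem_of_stronglyClosed F hT hθ _ (hAT x.2)
    · intro hz
      obtain ⟨⟨y, rfl⟩, hzT⟩ := Subgroup.mem_inf.mp hz
      have hyT : (y : Ω) ∈ T := wne_mem_of_map_mem F hT hθ y hzT
      have hyA : (y : Ω) ∈ A := wne_inf_le F hT hAT hcen y.2 hyT
      exact ⟨⟨y, hyA⟩, rfl⟩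
  have hSnT : S ≤ Subgroup.normalizer (T : Set Ω) := Fusion.le_normalizer_of_stronglyClosed F hT
  have h2 : normalizerIn S θ.range ≤ normalizerIn S A'' := by
    intro s hs
    obtain ⟨hsS, hsN⟩ := Subgroup.mem_inf.mp hs
    refine Subgroup.mem_inf.mpr ⟨hsS, ?_⟩
    rw [hA''eq, Subgroup.mem_normalizer_iff]
    intro z
    have e1 := Subgroup.mem_normalizer_iff.mp hsN z
    have e2 := Subgroup.mem_normalizer_iff.mp (hSnT hsS) z
    rw [Subgroup.mem_inf, Subgroup.mem_inf, e1, e2]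
  have h3 : normalizerIn S A ≤ normalizerIn S (A ⊔ centralizerIn S T) := by
    intro s hs
    obtain ⟨hsS, hsN⟩ := Subgroup.mem_inf.mp hs
    exact Subgroup.mem_inf.mpr ⟨hsS,
      wne_mem_normalizer_sup hsN (wne_le_normalizer_centralizer F hT hsS)⟩
  haveI : Finite (normalizerIn S A'') := Fusion.finite_of_le (inf_le_left : normalizerIn S A'' ≤ S)
  haveI : Finite (normalizerIn S (A ⊔ centralizerIn S T)) :=
    Fusion.finite_of_le (inf_le_left : normalizerIn S (A ⊔ centralizerIn S T) ≤ S)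
  exact ((Subgroup.card_le_of_le h2).trans h1).trans (Subgroup.card_le_of_le h3)

/-- The chain `1 ≤ T ≤ ⊤`. -/
def wneChain (T : Subgroup Ω) : ℕ → Subgroup Ω
  | 0 => ⊥
  | 1 => T
  | _ + 2 => ⊤

/-- In a fully automized `Q`, an automorphism in `Aut_F(Q)` which is the identity on `Q ∩ T` and
trivial modulo `T` is induced by an element of `S`. -/
theorem wne_stab_le [Finite S] (p : ℕ) [Fact p.Prime] (hS : IsPGroup p S) (F : FusionSystem S)
    (hT : F.StronglyClosed T) {Q : Subgroup Ω} (hfa : F.IsFullyAutomized p Q) (μ : MulAut Q)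
    (hμ : μ ∈ F.autGroup Q) (h0 : ∀ y : Q, (y : Ω) ∈ T → μ y = y)
    (h1 : ∀ y : Q, (y : Ω)⁻¹ * ((μ y : Q) : Ω) ∈ T) :
    ∃ g ∈ S, ∀ y : Q, ((μ y : Q) : Ω) = g * (y : Ω) * g⁻¹ := by
  obtain ⟨hQS, R, hR⟩ := hfa
  haveI : Finite Q := Fusion.finite_of_le hQS
  have hQp : IsPGroup p Q := hS.to_le hQS
  have hinv : ∀ i, ∀ α ∈ F.autGroup Q, ∀ x : Q, (x : Ω) ∈ wneChain T i →
      ((α x : Q) : Ω) ∈ wneChain T i := by
    intro i α hα x hx
    rcases i with _ | _ | i
    · have hx1 : x = 1 := Subtype.ext (Subgroup.mem_bot.mp hx)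
      rw [hx1, map_one]
      exact Subgroup.one_mem _
    · exact Fusion.aut_mem_of_stronglyClosed F hQS hT α hα x hx
    · exact Subgroup.mem_top _
  set B := Fusion.stabSubgroup F Q (wneChain T) hinv with hB
  have hμB : μ ∈ B := by
    refine ⟨hμ, fun i x hx => ?_⟩
    rcases i with _ | _ | i
    · show ((x⁻¹ * μ x : Q) : Ω) ∈ (⊥ : Subgroup Ω)
      rw [h0 x hx, inv_mul_cancel]
      exact Subgroup.one_mem _
    · exact h1 x
    · exact Subgroup.mem_top _
  have hBA : B ≤ F.autGroup Q := fun β hβ => hβ.1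
  have hBp : IsPGroup p B := by
    rintro ⟨β, hβ⟩
    obtain ⟨k, hk⟩ := Fusion.stabSet_pow_eq_one F Q (wneChain T) hinv p hQp 2
      (fun x => Subgroup.mem_top _) (fun β _ => ⟨0, fun x hx => by
        have hx1 : x = 1 := Subtype.ext (Subgroup.mem_bot.mp hx)
        rw [hx1, map_one]⟩) hβ
    exact ⟨k, Subtype.ext hk⟩
  have hBn : (B.subgroupOf (F.autGroup Q)).Normal := by
    constructor
    intro n hn a
    rw [Subgroup.mem_subgroupOf] at hn ⊢
    exact Fusion.stabSet_conj F Q (wneChain T) hinv a.2 hn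
  have hle : B.subgroupOf (F.autGroup Q) ≤ (R : Subgroup (F.autGroup Q)) :=
    Cfsg.Agent.Helper9.normal_pgroup_le_sylow (B.subgroupOf (F.autGroup Q)) hBp.comap_subtype R
  have hμR : (⟨μ, hμ⟩ : F.autGroup Q) ∈ (R : Subgroup (F.autGroup Q)) :=
    hle (Subgroup.mem_subgroupOf.mpr hμB)
  rw [hR, Subgroup.mem_subgroupOf] at hμR
  exact (mem_autInducedBy_iff S Q μ).mp hμR

end Cfsg.Agent.WNE
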