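import Mathlib
import Cfsg.Agent.WNE.ExtA

set_option autoImplicit false

/-!
# S5141, Step 3(B): a good restriction `a|P` extends to a good map on `N_T(P)`
-/

namespace Cfsg.Agent.WNE

open Cfsg Cfsg.FusionSystem Cfsg.Agent.Lead Cfsg.Agent.Lead.StrongInv
open Cfsg.Agent.Helper2.PPrimeRes Cfsg.Agent.PPN

variable {Ω : Type*} [Group Ω] {S T : Subgroup Ω}

/-- Step 3(B): the normalizer `N_T(P)` lies in the extender of a `T`-trivial extension `ψ` of
`a|P` to `P C_S(T)`, when the image of `ψ` is fully automized. -/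
theorem wne_le_extender [Finite S] (p : ℕ) [Fact p.Prime] (hS : IsPGroup p S) (F : FusionSystem S)
    (hT : F.StronglyClosed T) (a : MulAut T) (P : Subgroup Ω) (hPT : P ≤ T)
    (hcr : centralizerIn T (resAutS hPT a).range ≤ (resAutS hPT a).range)
    {ψ : ↥(P ⊔ centralizerIn S T) →* Ω} (hψ : ψ ∈ F.Hom (P ⊔ centralizerIn S T))
    (hψext : ∀ x : P, ψ (Subgroup.inclusion le_sup_left x) = resAutS hPT a x)
    (hrange : ψ.range = (resAutS hPT a).range ⊔ centralizerIn S T)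
    (hfa : F.IsFullyAutomized p ψ.range) :
    normalizerIn T P ≤ extender S (P ⊔ centralizerIn S T) ψ := by
  have hTS : T ≤ S := hT.1
  have hMS : P ⊔ centralizerIn S T ≤ S := Fusion.src_le F hψ
  have hinj := F.injective_of_mem hψ
  intro x hx
  obtain ⟨hxT, hxNP⟩ := Subgroup.mem_inf.mp hx
  have hxS : x ∈ S := hTS hxT
  have hxN : x ∈ Subgroup.normalizer ((P ⊔ centralizerIn S T : Subgroup Ω) : Set Ω) :=
    wne_mem_normalizer_sup hxNP (wne_le_normalizer_centralizer F hT hxS)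
  -- the transported conjugation
  set e := Fusion.equivOfRange ψ hinj rfl with he
  set cx : MulAut ↥(P ⊔ centralizerIn S T) := conjAut _ x hxN with hcx
  have hcxF : cx ∈ F.autGroup (P ⊔ centralizerIn S T) :=
    Fusion.autInducedBy_le_autGroup F hMS (Subgroup.subset_closure ⟨x, hxS, fun _ => rfl⟩)
  set βx : MulAut ψ.range := MulAut.congr e cx with hβx
  have hβxF : βx ∈ F.autGroup ψ.range := Fusion.congr_mem_autGroup F hψ rfl cx hcxF
  have hβxv : ∀ w : ↥(P ⊔ centralizerIn S T), ((βx (e w) : ψ.range) : Ω) = ψ (cx w) := by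
    intro w
    rw [hβx]
    simp only [MulAut.congr_apply, MulEquiv.trans_apply, MulEquiv.symm_apply_apply]
    rfl
  -- conjugation by `a x`
  set ax : T := a ⟨x, hxT⟩ with hax
  have haxN1 : (ax : Ω) ∈ Subgroup.normalizer ((resAutS hPT a).range : Set Ω) := by
    have key : ∀ z : T, (z : Ω) ∈ Subgroup.normalizer (P : Set Ω) →
        ∀ y ∈ (resAutS hPT a).range, ((a z : T) : Ω) * y * ((a z : T) : Ω)⁻¹ ∈
          (resAutS hPT a).range := by
      rintro z hz _ ⟨u, rfl⟩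
      have hu : (z : Ω) * u * (z : Ω)⁻¹ ∈ P := (Subgroup.mem_normalizer_iff.mp hz u).mp u.2
      refine ⟨⟨_, hu⟩, ?_⟩
      rw [resAutS_apply, resAutS_apply]
      have : (⟨(z : Ω) * u * (z : Ω)⁻¹, hPT hu⟩ : T) = z * ⟨u, hPT u.2⟩ * z⁻¹ := rfl
      rw [this, map_mul, map_mul, map_inv]
      rfl
    apply mem_normalizer_of_conj_mem
    · exact key ⟨x, hxT⟩ hxNP
    · intro y hy
      have h1 := key ⟨x, hxT⟩⁻¹ (Subgroup.inv_mem _ hxNP) y hy
      rw [map_inv] at h1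
      simpa using h1
  have haxN : (ax : Ω) ∈ Subgroup.normalizer (ψ.range : Set Ω) := by
    rw [hrange]
    exact wne_mem_normalizer_sup haxN1 (wne_le_normalizer_centralizer F hT (hTS ax.2))
  set γx : MulAut ψ.range := conjAut _ (ax : Ω) haxN with hγx
  have hγxF : γx ∈ F.autGroup ψ.range :=
    Fusion.autInducedBy_le_autGroup F hfa.1
      (Subgroup.subset_closure ⟨(ax : Ω), hTS ax.2, fun _ => rfl⟩)
  have hγxinv : ∀ y : ψ.range, ((γx⁻¹ y : ψ.range) : Ω) = (ax : Ω)⁻¹ * y * ax := fun _ => rfl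
  -- `μ = βx γx⁻¹` stabilizes the chain
  set μ : MulAut ψ.range := βx * γx⁻¹ with hμ
  have hμF : μ ∈ F.autGroup ψ.range := Subgroup.mul_mem _ hβxF (Subgroup.inv_mem _ hγxF)
  have hμ0 : ∀ y : ψ.range, (y : Ω) ∈ T → μ y = y := by
    intro y hyT
    have hyA : (y : Ω) ∈ (resAutS hPT a).range := by
      apply wne_inf_le F hT ?_ hcr (hrange ▸ y.2) hyT
      rintro _ ⟨u, rfl⟩
      exact (a _).2
    obtain ⟨u, hu⟩ := hyA
    -- `γx⁻¹ y = ψ (x⁻¹ u x)`
    have hu' : x⁻¹ * (u : Ω) * x ∈ P := by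
      have := (Subgroup.mem_normalizer_iff.mp (Subgroup.inv_mem _ hxNP) u).mp u.2
      rwa [inv_inv] at this
    set w : ↥(P ⊔ centralizerIn S T) := Subgroup.inclusion le_sup_left ⟨x⁻¹ * (u : Ω) * x, hu'⟩
      with hw
    have h1 : γx⁻¹ y = e w := by
      apply Subtype.ext
      rw [hγxinv, Fusion.equivOfRange_coe, hw, hψext, ← hu, resAutS_apply, resAutS_apply]
      have : (⟨x⁻¹ * (u : Ω) * x, hPT hu'⟩ : T) = ⟨x, hxT⟩⁻¹ * ⟨u, hPT u.2⟩ * ⟨x, hxT⟩ := rfl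
      rw [this, map_mul, map_mul, map_inv]
      rfl
    apply Subtype.ext
    rw [hμ, MulAut.mul_apply, h1, hβxv]
    have h2 : cx w = Subgroup.inclusion le_sup_left u := by
      apply Subtype.ext
      show x * (x⁻¹ * (u : Ω) * x) * x⁻¹ = u
      group
    rw [h2, hψext, hu]
  have hμ1 : ∀ y : ψ.range, (y : Ω)⁻¹ * ((μ y : ψ.range) : Ω) ∈ T := by
    intro y
    set z := γx⁻¹ y with hz
    have hzv : (z : Ω) = (ax : Ω)⁻¹ * y * ax := hγxinv y
    have h1 : (y : Ω)⁻¹ * (z : Ω) ∈ T := by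
      rw [hzv]
      have h2 : (y : Ω)⁻¹ * ((ax : Ω)⁻¹ * y * ax) = ((y : Ω)⁻¹ * (ax : Ω)⁻¹ * y) * ax := by group
      rw [h2]
      have h3 := wne_conj_mem' F hT (hfa.1 y.2) (T.inv_mem ax.2)
      exact T.mul_mem h3 ax.2
    have h4 : (z : Ω)⁻¹ * ((βx z : ψ.range) : Ω) ∈ T := by
      set w := e.symm z with hw
      have hzw : z = e w := by rw [hw, MulEquiv.apply_symm_apply]
      rw [hzw, hβxv, Fusion.equivOfRange_coe, ← map_inv, ← map_mul]
      apply Fusion.map_mem_of_stronglyClosed F hT hψ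
      show ((w : Ω))⁻¹ * (x * (w : Ω) * x⁻¹) ∈ T
      have h5 := wne_conj_mem' F hT (hMS w.2) hxT
      have h6 : ((w : Ω))⁻¹ * (x * (w : Ω) * x⁻¹) = ((w : Ω)⁻¹ * x * (w : Ω)) * x⁻¹ := by group
      rw [h6]
      exact T.mul_mem h5 (T.inv_mem hxT)
    have h7 : (y : Ω)⁻¹ * ((μ y : ψ.range) : Ω) =
        ((y : Ω)⁻¹ * (z : Ω)) * ((z : Ω)⁻¹ * ((βx z : ψ.range) : Ω)) := by
      rw [hμ, MulAut.mul_apply, ← hz]
      group
    rw [h7]
    exact T.mul_mem h1 h4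
  obtain ⟨g, hgS, hg⟩ := wne_stab_le p hS F hT hfa μ hμF hμ0 hμ1
  -- conclusion
  apply Subgroup.subset_closure
  refine ⟨hxS, hxN, g * (ax : Ω), S.mul_mem hgS (hTS ax.2), ?_⟩
  intro w hw
  have h1 : ψ ⟨x * (w : Ω) * x⁻¹, hw⟩ = ((βx (e w) : ψ.range) : Ω) := by
    rw [hβxv]
    rfl
  have h2 : βx (e w) = μ (γx (e w)) := by
    rw [hμ, MulAut.mul_apply, MulAut.inv_apply_self]
  rw [h1, h2, hg]
  show g * ((ax : Ω) * ψ w * (ax : Ω)⁻¹) * g⁻¹ = _
  group

/-- Step 3(B). -/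
theorem wne_ext [Finite S] (p : ℕ) [Fact p.Prime] (hS : IsPGroup p S) (F : FusionSystem S)
    (hF : F.IsSaturated p) (hT : F.StronglyClosed T) (a : MulAut T) (_ha : a ∈ F.autGroup T)
    (P : Subgroup Ω) (hPT : P ≤ T) (hcen : ppnCen F T P)
    (hres : resAutS hPT a ∈ (wneSys F hT).Hom P)
    (hfn : F.IsFullyNormalized (resAutS hPT a).range) :
    ∃ ψ ∈ (wneSys F hT).Hom (normalizerIn T P),
      ∀ (y : Ω) (hy : y ∈ P) (hyN : y ∈ normalizerIn T P),
        ψ ⟨y, hyN⟩ = ((a ⟨y, hPT hy⟩ : T) : Ω) := by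
  have hTS : T ≤ S := hT.1
  have hφF : resAutS hPT a ∈ F.Hom P := hres.1
  have hcr : centralizerIn T (resAutS hPT a).range ≤ (resAutS hPT a).range :=
    hcen _ ⟨_, hφF, rfl⟩
  have hRT : (resAutS hPT a).range ≤ T := by
    rintro _ ⟨u, rfl⟩
    exact (a _).2
  obtain ⟨ψ, hψ, hψext, hψtriv⟩ := hres.2.2 hcen
  obtain ⟨-, hrange⟩ := wne_good_range F hT hPT hcr hψ hψext hψtriv
  have hQfn : F.IsFullyNormalized ψ.range := by
    rw [hrange]
    exact wne_fullyNormalized_sup F hT hRT hcr hfn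
  obtain ⟨hfc, hfa⟩ := Fusion.fullyCentralized_fullyAutomized_of_fullyNormalized p hS F hF hQfn
  have hrec := Fusion.receptive_of_fullyCentralized p hS F hF hfc
  obtain ⟨ψ1, hψ1, hψ1ext⟩ := hrec.2 _ ψ hψ rfl
  have hMS : P ⊔ centralizerIn S T ≤ S := Fusion.src_le F hψ
  have hle : normalizerIn T P ⊔ centralizerIn S T ≤ extender S (P ⊔ centralizerIn S T) ψ := by
    apply sup_le
    · exact wne_le_extender p hS F hT a P hPT hcr hψ hψext hrange hfa
    · exact le_sup_right.trans (Fusion.le_extender _ hMS ψ (fun y => Fusion.map_mem F hψ y))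
  have hψ2 := Fusion.restrict_mem F hψ1 hle
  set ψ2 : ↥(normalizerIn T P ⊔ centralizerIn S T) →* Ω := ψ1.comp (Subgroup.inclusion hle)
    with hψ2def
  have hNT : normalizerIn T P ≤ T := inf_le_left
  have hPN : P ≤ normalizerIn T P := Fusion.le_normalizerIn hPT
  have hψ2ext : ∀ (y : Ω) (hy : y ∈ P ⊔ centralizerIn S T)
      (hy' : y ∈ normalizerIn T P ⊔ centralizerIn S T), ψ2 ⟨y, hy'⟩ = ψ ⟨y, hy⟩ :=
    fun y hy hy' => hψ1ext y hy (hle hy')
  have hψ3 := Fusion.restrict_mem F hψ2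
    (le_sup_left : normalizerIn T P ≤ normalizerIn T P ⊔ centralizerIn S T)
  refine ⟨ψ2.comp (Subgroup.inclusion le_sup_left), ⟨hψ3, hNT, fun _ => ?_⟩, ?_⟩
  · refine ⟨ψ2, hψ2, fun _ => rfl, ?_⟩
    apply wne_triv_of_centralizer F hT hNT hψ2
    intro c hc
    rw [show ψ2 c = ψ2 ⟨(c : Ω), c.2⟩ from rfl, hψ2ext c (Subgroup.mem_sup_right hc) c.2]
    exact hψtriv ⟨c, Subgroup.mem_sup_right hc⟩
  · intro y hy hyN
    show ψ2 ⟨y, _⟩ = _
    rw [hψ2ext y (Subgroup.mem_sup_left hy)]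
    exact hψext ⟨y, hy⟩

end Cfsg.Agent.WNE
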