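import Mathlib
import Cfsg.Agent.PPN.ClaimC
import Cfsg.Agent.PPN.Local
import Cfsg.Agent.WNE.Basic
import Cfsg.Agent.Lead.SylowLemmas
import Cfsg.Agent.Lead.FusionSub
import Cfsg.Agent.Lead.FusionSat2
import Cfsg.Agent.Helper6.BcgloA

set_option autoImplicit false

/-!
# S5141, Step 1: `p`-elements of `Aut_E(R)`, `R` an `E`-centric subgroup, are good

`E` weakly normal in `F`, `R ≤ T` `E`-centric, `γ ∈ Aut_E(R)` of `p`-power order.  Move `R` by an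
`F`-isomorphism `χ₀` onto a receptive, fully `F`-automized subgroup `Q`; `Q` is fully `F`-normalized,
hence fully `E`-normalized and fully `E`-automized.  The transported `γ` is a `p`-element of
`Aut_E(Q)`, so after a further twist by an element of `Aut_E(Q)` it is `c_t`, `t ∈ N_T(Q)`.  So
`χ γ χ⁻¹ = c_t` for an `F`-isomorphism `χ : R → Q`.  By receptivity `χ` extends to `χ₁` on
`R C_S(T)`.  For `c ∈ C_S(T)`, `y = χ₁(c)` centralizes `Q`, and `y⁻¹ t y t⁻¹ ∈ C_T(Q) ≤ Q`; hence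
`c_t` preserves the image of `χ₁`, and `χ₁⁻¹ c_t χ₁` extends `γ` and moves `c` by an element of `R`.
-/

namespace Cfsg.Agent.WNE

open Cfsg Cfsg.FusionSystem Cfsg.Agent.Lead Cfsg.Agent.Lead.StrongInv
open Cfsg.Agent.Helper2.PPrimeRes Cfsg.Agent.PPN Cfsg.Agent.Helper6.Bcglo

variable {Ω : Type*} [Group Ω] {S T : Subgroup Ω}

/-- A `p`-element of `Aut_E(Q)`, `Q` fully `E`-automized, is `Aut_E(Q)`-conjugate to a conjugation by
an element of `T`. -/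
theorem wne_pelt_sylow (p : ℕ) [Fact p.Prime] (E : FusionSystem T) {Q : Subgroup Ω} [Finite Q]
    (hQ : E.IsFullyAutomized p Q) (κ : MulAut Q) (hκ : κ ∈ E.autGroup Q) (n : ℕ)
    (hκp : κ ^ (p ^ n) = 1) :
    ∃ g ∈ E.autGroup Q, ∃ t ∈ T, ∀ y : Q, ((g (κ y) : Q) : Ω) = t * ((g y : Q) : Ω) * t⁻¹ := by
  obtain ⟨-, R, hR⟩ := hQ
  have hfinA : Finite (MulAut Q) := inferInstance
  set k' : E.autGroup Q := ⟨κ, hκ⟩ with hk'def
  have hk'pow : k' ^ (p ^ n) = 1 := by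
    apply Subtype.ext
    show κ ^ (p ^ n) = 1
    exact hκp
  have hpg : IsPGroup p (Subgroup.zpowers k') := by
    rintro ⟨g, hg⟩
    obtain ⟨m, rfl⟩ := Subgroup.mem_zpowers_iff.mp hg
    refine ⟨n, ?_⟩
    apply Subtype.ext
    show (k' ^ m) ^ (p ^ n) = 1
    rw [← zpow_natCast, ← zpow_mul, mul_comm, zpow_mul, zpow_natCast, hk'pow, one_zpow]
  obtain ⟨g, hg⟩ := exists_conj_le_sylow R (Subgroup.zpowers k') hpg
  have hmem : g * k' * g⁻¹ ∈ (R : Subgroup (E.autGroup Q)) := by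
    apply hg
    exact ⟨k', Subgroup.mem_zpowers k', rfl⟩
  rw [hR, Subgroup.mem_subgroupOf] at hmem
  obtain ⟨t, htT, ht⟩ := (mem_autInducedBy_iff T Q _).mp hmem
  refine ⟨g.1, g.2, t, htT, fun y => ?_⟩
  have h1 := ht ((g.1 : MulAut Q) y)
  refine Eq.trans ?_ h1
  show (((g.1 : MulAut Q) (κ y) : Q) : Ω) =
    ((((g * k' * g⁻¹ : E.autGroup Q) : MulAut Q) ((g.1 : MulAut Q) y) : Q) : Ω)
  have h2 : ((g * k' * g⁻¹ : E.autGroup Q) : MulAut Q) = g.1 * κ * g.1⁻¹ := rfl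
  rw [h2, MulAut.mul_apply, MulAut.mul_apply, MulAut.inv_apply_self]

/-- **Step 1.**  A `p`-element of `Aut_E(R)`, `R` an `E`-centric subgroup, is good. -/
theorem wne_pElement_good [Finite S] (p : ℕ) [Fact p.Prime] (hS : IsPGroup p S) (F : FusionSystem S)
    (hF : F.IsSaturated p) (E : FusionSystem T) (hE : E.IsWeaklyNormalIn F p) {R : Subgroup Ω}
    (hR : E.IsCentric R) (γ : MulAut R) (hγ : γ ∈ E.autGroup R) (k : ℕ) (hk : orderOf γ = p ^ k) :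
    wneGood F T R (R.subtype.comp γ.toMonoidHom) := by
  obtain ⟨hEsat, -, hinv⟩ := hE
  have hsub : E.IsSubsystemOf F := hinv.1
  have hT : F.StronglyClosed T := hinv.2.1
  have hTS : T ≤ S := hT.1
  have hRT : R ≤ T := hR.1
  have hRS : R ≤ S := hRT.trans hTS
  have hfinT : Finite T := Fusion.finite_of_le hTS
  have hTp : IsPGroup p T := hS.to_le hTS
  have hSI : SI F E := SI_of_invariant F E hinv
  have hcenR : ppnCen F T R := ppnCen_of_isCentric F E hinv hR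
  -- the receptive, fully automized conjugate
  obtain ⟨Q, ⟨φ, hφ, hr⟩, hQfa, hQrec⟩ := hF R hRS
  have hQS : Q ≤ S := hQfa.1
  have hQT : Q ≤ T := by
    rw [← hr]
    rintro _ ⟨x, rfl⟩
    exact hT.2 R hRT φ hφ x
  have hfinQ : Finite Q := Fusion.finite_of_le hQS
  have hQfn : F.IsFullyNormalized Q := Fusion.fullyNormalized_of_FAR p hS F hQfa hQrec
  have hQfnE : E.IsFullyNormalized Q :=
    (Fusion.fully_of_subsystem p hS F hF T hT E hsub Q hQT).2 hQfn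
  have hQfaE : E.IsFullyAutomized p Q :=
    (Fusion.fullyCentralized_fullyAutomized_of_fullyNormalized p hTp E hEsat hQfnE).2
  have hcenQ : centralizerIn T Q ≤ Q := hcenR Q ⟨φ, hφ, hr⟩
  set e₀ := Fusion.equivOfRange φ (F.injective_of_mem hφ) hr with he₀def
  have he₀ : IsIso F e₀ := IsIso.of_hom hφ hr
  have hγ₂ : MulAut.congr e₀ γ ∈ E.autGroup Q := ppn_congr_mem F E hSI hRT he₀ hγ
  have hγ₂p : (MulAut.congr e₀ γ) ^ (p ^ k) = 1 := by
    rw [← map_pow, ← hk, pow_orderOf_eq_one, map_one]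
  obtain ⟨g, hg, t, htT, hgt⟩ := wne_pelt_sylow p E hQfaE _ hγ₂ k hγ₂p
  have hgF : g ∈ F.autGroup Q :=
    (Fusion.mem_autGroup_iff F hQS g).mpr (hsub Q ((Fusion.mem_autGroup_iff E hQT g).mp hg))
  have hgI : IsIso F (g : Q ≃* Q) := (isIso_iff_mem_autGroup F hQS g).mpr hgF
  set e : R ≃* Q := e₀.trans (g : Q ≃* Q) with hedef
  have he : IsIso F e := he₀.trans hgI
  have hconj : ∀ x : R, ((e (γ x) : Q) : Ω) = t * ((e x : Q) : Ω) * t⁻¹ := by
    intro x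
    have h1 := hgt (e₀ x)
    have h2 : (MulAut.congr e₀ γ) (e₀ x) = e₀ (γ x) := by
      show e₀ (γ (e₀.symm (e₀ x))) = e₀ (γ x)
      rw [MulEquiv.symm_apply_apply]
    rw [h2] at h1
    exact h1
  -- `t` normalizes `Q`
  have htQ : ∀ q : Q, t⁻¹ * (q : Ω) * t ∈ Q := by
    intro q
    have h1 := hconj (γ⁻¹ (e.symm q))
    rw [MulAut.apply_inv_self, MulEquiv.apply_symm_apply] at h1
    have h2 : t⁻¹ * (q : Ω) * t = ((e (γ⁻¹ (e.symm q)) : Q) : Ω) := by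
      rw [h1]; group
    rw [h2]
    exact (e (γ⁻¹ (e.symm q))).2
  -- the map `χ` and its extension
  set χ : R →* Ω := Q.subtype.comp e.toMonoidHom with hχdef
  have hχ : χ ∈ F.Hom R := he
  have hrχ : χ.range = Q := range_subtype_comp e
  obtain ⟨ψ, hψ, hψext⟩ := hQrec.2 R χ hχ hrχ
  have hCle : centralizerIn S T ≤ centralizerIn S R :=
    inf_le_inf_left _ (Subgroup.centralizer_le hRT)
  have hPle : R ⊔ centralizerIn S T ≤ extender S R χ :=
    sup_le (Fusion.le_extender R hRS χ (fun x => hQS (e x).2))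
      (hCle.trans (Fusion.centralizerIn_le_extender R χ))
  set χ₁ : ↥(R ⊔ centralizerIn S T) →* Ω := ψ.comp (Subgroup.inclusion hPle) with hχ₁def
  have hχ₁ : χ₁ ∈ F.Hom (R ⊔ centralizerIn S T) := Fusion.restrict_mem F hψ hPle
  have hχ₁R : ∀ x : R, χ₁ (Subgroup.inclusion le_sup_left x) = ((e x : Q) : Ω) := by
    intro x
    exact hψext (x : Ω) x.2 (hPle (Subgroup.mem_sup_left x.2))
  have hP₁S : χ₁.range ≤ S := Fusion.range_le F hχ₁
  -- the key computation on `C_S(T)`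
  have hkey : ∀ c : ↥(R ⊔ centralizerIn S T), (c : Ω) ∈ centralizerIn S T →
      ∃ r : R, t * χ₁ c * t⁻¹ = χ₁ (c * Subgroup.inclusion le_sup_left r) := by
    intro c hc
    have hyS : χ₁ c ∈ S := hP₁S ⟨c, rfl⟩
    have hcC := (Subgroup.mem_inf.mp hc).2
    rw [Subgroup.mem_centralizer_iff] at hcC
    have hyC : ∀ q : Q, (q : Ω) * χ₁ c = χ₁ c * (q : Ω) := by
      intro q
      have h1 : ((e (e.symm q) : Q) : Ω) = (q : Ω) := by rw [MulEquiv.apply_symm_apply]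
      rw [← h1, ← hχ₁R, ← map_mul, ← map_mul]
      congr 1
      apply Subtype.ext
      exact hcC _ (hRT (e.symm q).2)
    have hzT : (χ₁ c)⁻¹ * t * χ₁ c * t⁻¹ ∈ T :=
      T.mul_mem (wne_conj_mem' F hT hyS htT) (T.inv_mem htT)
    have hzC : (χ₁ c)⁻¹ * t * χ₁ c * t⁻¹ ∈ Subgroup.centralizer (Q : Set Ω) := by
      rw [Subgroup.mem_centralizer_iff]
      intro q hq
      have h1 := hyC ⟨q, hq⟩
      have h2 := hyC ⟨t⁻¹ * q * t, htQ ⟨q, hq⟩⟩
      simp only at h1 h2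
      have h3 : Commute q (χ₁ c) := h1
      have h4 : Commute (t⁻¹ * q * t) (χ₁ c) := h2
      have h5 : Commute q (t * χ₁ c * t⁻¹) := by
        have h6 : Commute (t * (t⁻¹ * q * t) * t⁻¹) (t * χ₁ c * t⁻¹) := by
          show t * (t⁻¹ * q * t) * t⁻¹ * (t * χ₁ c * t⁻¹) = t * χ₁ c * t⁻¹ * (t * (t⁻¹ * q * t) * t⁻¹)
          have h7 : t⁻¹ * q * t * χ₁ c = χ₁ c * (t⁻¹ * q * t) := h4.eq
          calc t * (t⁻¹ * q * t) * t⁻¹ * (t * χ₁ c * t⁻¹)
              = t * ((t⁻¹ * q * t) * χ₁ c) * t⁻¹ := by group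
            _ = t * (χ₁ c * (t⁻¹ * q * t)) * t⁻¹ := by rw [h7]
            _ = t * χ₁ c * t⁻¹ * (t * (t⁻¹ * q * t) * t⁻¹) := by group
        have h8 : t * (t⁻¹ * q * t) * t⁻¹ = q := by group
        rwa [h8] at h6
      have h9 : (χ₁ c)⁻¹ * t * χ₁ c * t⁻¹ = (χ₁ c)⁻¹ * (t * χ₁ c * t⁻¹) := by group
      rw [h9]
      exact (h3.inv_right.mul_right h5).eq
    have hzQ : (χ₁ c)⁻¹ * t * χ₁ c * t⁻¹ ∈ Q := hcenQ (Subgroup.mem_inf.mpr ⟨hzT, hzC⟩)
    refine ⟨e.symm ⟨_, hzQ⟩, ?_⟩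
    rw [map_mul, hχ₁R, MulEquiv.apply_symm_apply]
    show t * χ₁ c * t⁻¹ = χ₁ c * ((χ₁ c)⁻¹ * t * χ₁ c * t⁻¹)
    group
  -- `c_t` preserves the image of `χ₁`
  have hmap : ∀ y : ↥(R ⊔ centralizerIn S T), t * χ₁ y * t⁻¹ ∈ χ₁.range := by
    intro y
    have := Fusion.sup_map_mem ((MulAut.conj t).toMonoidHom.comp χ₁) χ₁.range ?_ ?_ y
    · exact this
    · intro x
      show t * χ₁ (Subgroup.inclusion le_sup_left x) * t⁻¹ ∈ χ₁.range
      rw [hχ₁R, ← hconj, ← hχ₁R]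
      exact ⟨_, rfl⟩
    · intro c
      show t * χ₁ (Subgroup.inclusion le_sup_right c) * t⁻¹ ∈ χ₁.range
      obtain ⟨r, hr'⟩ := hkey (Subgroup.inclusion le_sup_right c) c.2
      rw [hr']
      exact ⟨_, rfl⟩
  -- the extension of `γ`
  have hθ₁ : (conjHom χ₁.range t).comp (χ₁.codRestrict χ₁.range (fun y => ⟨y, rfl⟩)) ∈
      F.Hom (R ⊔ centralizerIn S T) :=
    F.comp_mem hχ₁ (F.conj_mem hP₁S (hTS htT)) (fun y => ⟨y, rfl⟩)
  obtain ⟨χinv, hχinv, hinvv, -⟩ := Fusion.exists_inv F hχ₁ (rfl : χ₁.range = χ₁.range)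
  have hmap' : ∀ y : ↥(R ⊔ centralizerIn S T),
      ((conjHom χ₁.range t).comp (χ₁.codRestrict χ₁.range (fun y => ⟨y, rfl⟩))) y ∈ χ₁.range :=
    fun y => hmap y
  have hψ' := F.comp_mem hθ₁ hχinv hmap'
  refine ⟨_, hψ', ?_, wne_triv_of_centralizer F hT hRT hψ' ?_⟩
  · intro x
    show χinv ⟨t * χ₁ (Subgroup.inclusion le_sup_left x) * t⁻¹, _⟩ = ((γ x : R) : Ω)
    have h1 : t * χ₁ (Subgroup.inclusion le_sup_left x) * t⁻¹ =
        χ₁ (Subgroup.inclusion le_sup_left (γ x)) := by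
      rw [hχ₁R, ← hconj, ← hχ₁R]
    have h2 := hinvv (Subgroup.inclusion le_sup_left (γ x)) ⟨_, rfl⟩
    refine Eq.trans ?_ h2
    congr 1
    exact Subtype.ext h1
  · intro c hc
    show (c : Ω)⁻¹ * χinv ⟨t * χ₁ c * t⁻¹, _⟩ ∈ T
    obtain ⟨r, hr'⟩ := hkey c hc
    have h2 := hinvv (c * Subgroup.inclusion le_sup_left r) ⟨_, rfl⟩
    have h3 : χinv ⟨t * χ₁ c * t⁻¹, hmap c⟩ = (c : Ω) * (r : Ω) := by
      refine Eq.trans ?_ h2
      congr 1
      exact Subtype.ext hr'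
    rw [h3, inv_mul_cancel_left]
    exact hRT r.2

end Cfsg.Agent.WNE
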