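import Mathlib
import Cfsg.Agent.WNE.Inv
import Cfsg.Agent.WNE.PElt

set_option autoImplicit false

/-!
# S5141, Step 2: `E1 p E ≤ wneSys`, and `wneSys` is invariant in `F`
-/

namespace Cfsg.Agent.WNE

open Cfsg Cfsg.FusionSystem Cfsg.Agent.Lead Cfsg.Agent.Lead.StrongInv
open Cfsg.Agent.Helper2.PPrimeRes Cfsg.Agent.PPN

variable {Ω : Type*} [Group Ω] {S T : Subgroup Ω}

/-- `E ∩ wneSys` has index prime to `p` in `E`. -/
theorem wne_inter_index [Finite S] (p : ℕ) [Fact p.Prime] (hS : IsPGroup p S) (F : FusionSystem S)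
    (hF : F.IsSaturated p) (E : FusionSystem T) (hE : E.IsWeaklyNormalIn F p) :
    (interSys E {wneSys F hE.2.2.2.1}).HasPrimeToPIndexIn E p := by
  have hEF : E.IsSubsystemOf F := hE.2.2.1
  refine ⟨interSys_le E _, fun P hPT => ?_⟩
  rw [Subgroup.map_le_iff_le_comap, Subgroup.closure_le]
  rintro ⟨α, hα⟩ ⟨k, hk⟩
  show α ∈ (interSys E {wneSys F hE.2.2.2.1}).autGroup P
  have hk' : orderOf α = p ^ k := by rw [← hk, Subgroup.orderOf_mk]
  rw [Fusion.mem_autGroup_iff _ hPT]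
  have hαE := (Fusion.mem_autGroup_iff E hPT α).mp hα
  refine ⟨hαE, fun D hD => ?_⟩
  rw [Set.mem_singleton_iff] at hD
  rw [hD]
  refine ⟨hEF P hαE, hPT, fun hcen => ?_⟩
  exact wne_pElement_good p hS F hF E hE (wne_isCentric_of_ppnCen F E hEF hPT hcen) α hα k hk'

/-- Step 2: `E1 p E ≤ wneSys`. -/
theorem wne_E1_le [Finite S] (p : ℕ) [Fact p.Prime] (hS : IsPGroup p S) (F : FusionSystem S)
    (hF : F.IsSaturated p) (E : FusionSystem T) (hE : E.IsWeaklyNormalIn F p) (P : Subgroup Ω) :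
    (E1 p E).Hom P ⊆ (wneSys F hE.2.2.2.1).Hom P := by
  intro φ hφ
  have h1 := E0_le_of p E (wne_inter_index p hS F hF E hE) P (E1_le_E0 p E P hφ)
  exact h1.2 _ rfl

/-- `wneSys` is invariant in `F`. -/
theorem wneSys_isInvariantIn [Finite S] (p : ℕ) [Fact p.Prime] (hS : IsPGroup p S)
    (F : FusionSystem S) (hF : F.IsSaturated p) (E : FusionSystem T)
    (hE : E.IsWeaklyNormalIn F p) : (wneSys F hE.2.2.2.1).IsInvariantIn F := by
  have hT : F.StronglyClosed T := hE.2.2.2.1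
  have hTS : T ≤ S := hT.1
  have hTp : IsPGroup p T := hS.to_le hTS
  haveI : Finite T := Fusion.finite_of_le hTS
  have hEF : E.IsSubsystemOf F := hE.2.2.1
  refine ⟨wneSys_le F hT, hT, wneSys_invariance p F hF hT, ?_⟩
  intro P hPT φ hφ
  obtain ⟨α, hα, φ₀, hφ₀, hv⟩ := hE.2.2.2.2.2 P hPT φ hφ
  obtain ⟨b, hb, ε, hε, hw⟩ := (E1_main p hTp E hE.1).2.1 P φ₀ hφ₀
  have hbF : b ∈ F.autGroup T := autGroup_le_of_subsystem F E hEF T hb
  refine ⟨α * b, Subgroup.mul_mem _ hα hbF, ε, wne_E1_le p hS F hF E hE P hε, ?_⟩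
  intro x hx
  have hφ₀T : φ₀ x ∈ T := (E.le_of_mem hφ₀).2 x
  rw [hv x hφ₀T, MulAut.mul_apply]
  congr 2
  exact Subtype.ext (hw x hx)

end Cfsg.Agent.WNE
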