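import Mathlib
import Cfsg.Agent.WNE.Sub
import Cfsg.Agent.WNE.Ext
import Cfsg.Agent.WNE.Claim

set_option autoImplicit false

/-!
# S5141, Step 4: the extension condition for `A0 p E = Aut_{O^{p'}(E)}(T)`
-/

namespace Cfsg.Agent.WNE

open Cfsg Cfsg.FusionSystem Cfsg.Agent.Lead Cfsg.Agent.Lead.StrongInv
open Cfsg.Agent.Helper2.PPrimeRes Cfsg.Agent.PPN

variable {Ω : Type*} [Group Ω] {S T : Subgroup Ω}

/-- `T` itself lies in the class. -/
theorem wne_ppnCen_top [Finite S] (F : FusionSystem S) (hT : F.StronglyClosed T) :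
    ppnCen F T T := by
  have hWC := Fusion.weaklyClosed_of_stronglyClosed F hT
  rintro Q ⟨φ, hφ, rfl⟩
  rw [hWC.2 φ hφ]
  exact inf_le_left

/-- An element of `Aut_{wneSys}(T)` satisfies the extension condition. -/
theorem wne_autGroup_ext [Finite S] (F : FusionSystem S) (hT : F.StronglyClosed T) (α : MulAut T)
    (hα : α ∈ (wneSys F hT).autGroup T) :
    ∃ β ∈ F.autGroup (T ⊔ centralizerIn S T),
      (∀ x : T, ((β (Subgroup.inclusion le_sup_left x) : ↥(T ⊔ centralizerIn S T)) : Ω) =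
        ((α x : T) : Ω)) ∧
      ∀ c : ↥(T ⊔ centralizerIn S T), (c : Ω) ∈ centralizerIn S T →
        (c : Ω)⁻¹ * ((β c : ↥(T ⊔ centralizerIn S T)) : Ω) ∈
          T ⊓ Subgroup.centralizer (T : Set Ω) := by
  have hφ := (Fusion.mem_autGroup_iff (wneSys F hT) le_rfl α).mp hα
  obtain ⟨ψ, hψ, hψext, hψtriv⟩ := hφ.2.2 (wne_ppnCen_top F hT)
  have hr : (T.subtype.comp α.toMonoidHom).range = T := by
    ext z
    constructor
    · rintro ⟨x, rfl⟩
      exact (α x).2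
    · intro hz
      exact ⟨α.symm ⟨z, hz⟩, by simp⟩
  have hcr : centralizerIn T (T.subtype.comp α.toMonoidHom).range ≤
      (T.subtype.comp α.toMonoidHom).range := by
    rw [hr]
    exact inf_le_left
  obtain ⟨-, hrange⟩ := wne_good_range F hT le_rfl hcr hψ hψext hψtriv
  rw [hr] at hrange
  obtain ⟨β, hβ, hβx⟩ := Fusion.exists_aut_of_range_eq F hψ hrange
  refine ⟨β, hβ, fun x => by rw [hβx, hψext]; rfl, fun c hc => ?_⟩
  refine Subgroup.mem_inf.mpr ⟨by rw [hβx]; exact hψtriv c, ?_⟩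
  have h1 := wne_aut_centralizer F hT β hβ c hc
  exact Subgroup.mul_mem _ (Subgroup.inv_mem _ (Subgroup.mem_inf.mp hc).2)
    (Subgroup.mem_inf.mp h1).2

/-- Step 4: the generators of `A0 p E` lie in `Aut_{wneSys}(T)`. -/
theorem wne_A0gen_mem [Finite S] (p : ℕ) [Fact p.Prime] (hS : IsPGroup p S) (F : FusionSystem S)
    (hF : F.IsSaturated p) (E : FusionSystem T) (hE : E.IsWeaklyNormalIn F p) (a : MulAut T)
    (ha : a ∈ A0gen p E) : a ∈ (wneSys F hE.2.2.2.1).autGroup T := by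
  have hp : p.Prime := Fact.out
  have hT : F.StronglyClosed T := hE.2.2.2.1
  have hTS : T ≤ S := hT.1
  have hEF : E.IsSubsystemOf F := hE.2.2.1
  haveI : Finite T := Fusion.finite_of_le hTS
  obtain ⟨haE, P, hP, hres⟩ := ha
  have haF : a ∈ F.autGroup T := autGroup_le_of_subsystem F E hEF T haE
  have hG := wneSys_isInvariantIn p hS F hF E hE
  have hcen : ppnCen F T P := ppnCen_of_isCentric F E hE.2.2 hP
  -- a `p`-power of `a` is good
  obtain ⟨k, hk⟩ := wne_claim p hS F hF (wneSys F hT) hG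
    (fun b hb Q hQT hQ _ hresb hfn => wne_ext p hS F hF hT b hb Q hQT hQ hresb hfn)
    a haF P hP.1 hcen (wne_E1_le p hS F hF E hE P hres)
  -- the `p`-part of `a` is good
  haveI : Finite (MulAut T) := inferInstance
  obtain ⟨e, m, hm', hm⟩ := Nat.exists_eq_pow_mul_and_not_dvd (orderOf_pos a).ne' p hp.ne_one
  have hpow1 : (a ^ m) ^ p ^ e = 1 := by
    rw [← pow_mul, mul_comm, ← hm, pow_orderOf_eq_one]
  obtain ⟨j, -, hj⟩ := (Nat.dvd_prime_pow hp).mp (orderOf_dvd_of_pow_eq_one hpow1)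
  have hamE : a ^ m ∈ E.autGroup T := Subgroup.pow_mem _ haE m
  have ham : a ^ m ∈ (wneSys F hT).autGroup T := by
    rw [Fusion.mem_autGroup_iff _ le_rfl]
    refine ⟨(Fusion.mem_autGroup_iff F hTS _).mp (Subgroup.pow_mem _ haF m), le_rfl, fun _ => ?_⟩
    exact wne_pElement_good p hS F hF E hE (Fusion.top_isCentric E) (a ^ m) hamE j hj
  -- Bezout
  have hcop : Nat.Coprime (p ^ k) m := Nat.Coprime.pow_left _ (hp.coprime_iff_not_dvd.mpr hm')
  have hbez : (1 : ℤ) = ((p ^ k : ℕ) : ℤ) * Nat.gcdA (p ^ k) m + (m : ℤ) * Nat.gcdB (p ^ k) m := by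
    rw [← Nat.gcd_eq_gcd_ab, hcop.gcd_eq_one]
    simp
  have hafin : a = (a ^ p ^ k) ^ (Nat.gcdA (p ^ k) m) * (a ^ m) ^ (Nat.gcdB (p ^ k) m) := by
    calc a = a ^ (1 : ℤ) := (zpow_one a).symm
      _ = a ^ (((p ^ k : ℕ) : ℤ) * Nat.gcdA (p ^ k) m + (m : ℤ) * Nat.gcdB (p ^ k) m) := by
        rw [← hbez]
      _ = (a ^ p ^ k) ^ (Nat.gcdA (p ^ k) m) * (a ^ m) ^ (Nat.gcdB (p ^ k) m) := by
        rw [zpow_add, zpow_mul, zpow_mul, zpow_natCast, zpow_natCast]
  rw [hafin]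
  exact Subgroup.mul_mem _ (Subgroup.zpow_mem _ hk _) (Subgroup.zpow_mem _ ham _)

/-- The extension condition for `A0 p E = Aut_{O^{p'}(E)}(T)`. -/
theorem wne_extension [Finite S] (p : ℕ) [Fact p.Prime] (hS : IsPGroup p S) (F : FusionSystem S)
    (hF : F.IsSaturated p) (E : FusionSystem T) (hE : E.IsWeaklyNormalIn F p) :
    ∀ α ∈ A0 p E, ∃ β ∈ F.autGroup (T ⊔ centralizerIn S T),
      (∀ x : T, ((β (Subgroup.inclusion le_sup_left x) : ↥(T ⊔ centralizerIn S T)) : Ω) = ((α x : T) : Ω)) ∧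
      ∀ c : ↥(T ⊔ centralizerIn S T), (c : Ω) ∈ centralizerIn S T →
        (c : Ω)⁻¹ * ((β c : ↥(T ⊔ centralizerIn S T)) : Ω) ∈ T ⊓ Subgroup.centralizer (T : Set Ω) := by
  intro α hα
  apply wne_autGroup_ext F hE.2.2.2.1 α
  have hle : A0 p E ≤ (wneSys F hE.2.2.2.1).autGroup T := by
    unfold A0
    rw [Subgroup.closure_le]
    intro a ha
    exact wne_A0gen_mem p hS F hF E hE a ha
  exact hle hα

end Cfsg.Agent.WNE
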