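import Mathlib
import Cfsg.Agent.PPN.Local
import Cfsg.Agent.PPN.ClaimC
import Cfsg.Agent.OLV.HConj
import Cfsg.Agent.OLV.NormalGen
import Cfsg.Agent.WNE.ResInvA

set_option autoImplicit false
set_option linter.unusedVariables false

/-!
# S5141: `O^{p'}(E) = resSys p E` is invariant in `F`
-/

namespace Cfsg.Agent.WNE

open Cfsg Cfsg.FusionSystem Cfsg.Agent.Lead Cfsg.Agent.Lead.StrongInv Cfsg.Agent.Lead.PrimeIdx
open Cfsg.Agent.Helper2.PPrimeRes Cfsg.Agent.PPN Cfsg.Agent.OLV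

variable {Ω : Type*} [Group Ω] {S T : Subgroup Ω}

/-- `E` is stable under `Aut_F(T)` (in the `SItop` form over the restriction of `F` to `T`). -/
theorem wne_SItop_self (F : FusionSystem S) (hT : F.StronglyClosed T) (E : FusionSystem T)
    (hE : E.IsInvariantIn F) : SItop (wneRes F hT) E := by
  have hSI := SI_of_invariant F E hE
  intro P hPT φ hφ hφT ψ hψ
  exact hSI P T hPT le_rfl φ hφ hφT ψ hψ.1

/-- Conjugation by `Aut_F(T)` preserves the generators of `A0`. -/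
theorem wne_A0gen_conj (p : ℕ) (F : FusionSystem S) (hT : F.StronglyClosed T) (E : FusionSystem T)
    (hE : E.IsInvariantIn F) (α : MulAut T) (hα : α ∈ F.autGroup T) (β : MulAut T)
    (hβ : β ∈ A0gen p E) : α * β * α⁻¹ ∈ A0gen p E := by
  obtain ⟨hβE, P, hP, hres⟩ := hβ
  have hTS : T ≤ S := hT.1
  have hSI := SI_of_invariant F E hE
  have hP' := olv_isCentric_map hE α hα hP
  refine ⟨conj_mem_autGroup F E hSI hTS le_rfl α β hα hβE, _, hP', ?_⟩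
  have hψ : T.subtype.comp α.toMonoidHom ∈ (wneRes F hT).Hom T :=
    ⟨(Fusion.mem_autGroup_iff F hTS α).mp hα, le_rfl⟩
  obtain ⟨χ, hχ, hv⟩ := wne_SItop_E1 p F hT E hE P hP.1 _ hres
    (fun x => ((E1 p E).le_of_mem hres).2 x) _ hψ
  convert hχ using 1
  ext ⟨y, t, ht, rfl⟩
  have h1 := hv ⟨t.1, ht⟩ ⟨t, ht, rfl⟩
  have h2 : χ ⟨(T.subtype.comp α.toMonoidHom) t, ⟨t, ht, rfl⟩⟩ =
      χ ⟨(T.subtype.comp α.toMonoidHom) (Subgroup.inclusion hP.1 ⟨t.1, ht⟩), ⟨t, ht, rfl⟩⟩ := rfl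
  rw [h2, h1]
  show (((α * β * α⁻¹) (α t) : T) : Ω) = ((α (β t) : T) : Ω)
  rw [MulAut.mul_apply, MulAut.mul_apply, MulAut.inv_apply_self]

/-- `A0` is normalized by `Aut_F(T)`. -/
theorem wne_A0_conj (p : ℕ) (F : FusionSystem S) (hT : F.StronglyClosed T) (E : FusionSystem T)
    (hE : E.IsInvariantIn F) (α : MulAut T) (hα : α ∈ F.autGroup T) (β : MulAut T)
    (hβ : β ∈ A0 p E) : α * β * α⁻¹ ∈ A0 p E := by
  unfold A0 at hβ ⊢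
  induction hβ using Subgroup.closure_induction with
  | mem x hx => exact Subgroup.subset_closure (wne_A0gen_conj p F hT E hE α hα x hx)
  | one => simp
  | mul x y _ _ hx hy =>
    have h : α * (x * y) * α⁻¹ = (α * x * α⁻¹) * (α * y * α⁻¹) := by group
    rw [h]
    exact Subgroup.mul_mem _ hx hy
  | inv x _ hx =>
    have h : α * x⁻¹ * α⁻¹ = (α * x * α⁻¹)⁻¹ := by group
    rw [h]
    exact Subgroup.inv_mem _ hx

/-- `bigSys` is stable under `Aut_F(T)`. -/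
theorem wne_SItop_bigSys [Finite S] [Finite T] (p : ℕ) (F : FusionSystem S)
    (hT : F.StronglyClosed T) (E : FusionSystem T) (hE : E.IsInvariantIn F) :
    SItop (wneRes F hT) (bigSys p E) := by
  intro P hPT φ hφ hφT ψ hψ
  obtain ⟨hφE, β', hβ', φ₀, hφ₀, hw⟩ := hφ
  obtain ⟨β, hβ, hβeq⟩ := (mem_FA_top p E β').mp hβ'
  have hr : ψ.range = T := (Fusion.weaklyClosed_of_stronglyClosed F hT).2 ψ hψ.1
  obtain ⟨α, hα, hαv⟩ := Fusion.exists_aut_of_range_eq F hψ.1 hr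
  obtain ⟨χ, hχ, hv⟩ := wne_SItop_self F hT E hE P hPT φ hφE hφT ψ hψ
  have hφ₀T : ∀ x : P, φ₀ x ∈ T := ((E1 p E).le_of_mem hφ₀).2
  obtain ⟨χ₀, hχ₀, hv₀⟩ := wne_SItop_E1 p F hT E hE P hPT φ₀ hφ₀ hφ₀T ψ hψ
  refine ⟨χ, ⟨hχ, ?_⟩, hv⟩
  have hβ'' : α * β * α⁻¹ ∈ A0 p E := wne_A0_conj p F hT E hE α hα β hβ
  refine ⟨T.subtype.comp (α * β * α⁻¹).toMonoidHom,
    (mem_FA_top p E _).mpr ⟨_, hβ'', fun s => rfl⟩, χ₀, hχ₀, ?_⟩
  rintro ⟨y, t, ht, rfl⟩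
  have h1 := hv ⟨t.1, ht⟩ ⟨t, ht, rfl⟩
  have h2 := hv₀ ⟨t.1, ht⟩ ⟨t, ht, rfl⟩
  have e1 : χ ⟨ψ t, ⟨t, ht, rfl⟩⟩ = ψ ⟨φ ⟨t.1, ht⟩, hφT _⟩ := h1
  have e2 : χ₀ ⟨ψ t, ⟨t, ht, rfl⟩⟩ = ψ ⟨φ₀ ⟨t.1, ht⟩, hφ₀T _⟩ := h2
  rw [e1]
  have e3 : (⟨χ₀ ⟨ψ t, ⟨t, ht, rfl⟩⟩, ((E1 p E).le_of_mem hχ₀).2 _⟩ : T) =
      α ⟨φ₀ ⟨t.1, ht⟩, hφ₀T _⟩ := by
    apply Subtype.ext
    rw [hαv]
    exact e2
  show ψ ⟨φ ⟨t.1, ht⟩, hφT _⟩ = (((α * β * α⁻¹) ⟨χ₀ ⟨ψ t, ⟨t, ht, rfl⟩⟩, _⟩ : T) : Ω)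
  rw [e3, MulAut.mul_apply, MulAut.mul_apply, MulAut.inv_apply_self, hαv]
  have e4 : (⟨φ ⟨t.1, ht⟩, hφT _⟩ : T) = β ⟨φ₀ ⟨t.1, ht⟩, hφ₀T _⟩ := by
    apply Subtype.ext
    rw [← hβeq]
    exact hw ⟨t.1, ht⟩
  rw [e4]

/-- `E`-centric subgroups are closed under `F`-conjugacy inside `T`. -/
theorem wne_isCentric_of_isConj (F : FusionSystem S) (hT : F.StronglyClosed T) (E : FusionSystem T)
    (hE : E.IsInvariantIn F) {P Q : Subgroup Ω} (hP : E.IsCentric P)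
    (hPQ : (wneRes F hT).IsConj P Q) : E.IsCentric Q := by
  obtain ⟨φ, hφ, hr⟩ := hPQ
  have h1 : ppnCen F T P := ppnCen_of_isCentric F E hE hP
  have h2 : ppnCen F T Q := ppnCen_of_le F h1 le_rfl ⟨φ, hφ.1, hr⟩
  have hQT : Q ≤ T := by
    rw [← hr]
    exact Fusion.range_le (wneRes F hT) hφ
  refine ⟨hQT, fun Q' hQQ' => ?_⟩
  obtain ⟨φ', hφ', hr'⟩ := hQQ'
  exact h2 Q' ⟨φ', hE.1 _ hφ', hr'⟩

theorem wne_resSys_isInvariantIn [Finite S] [Finite T] (p : ℕ) [Fact p.Prime] (hS : IsPGroup p S)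
    (F : FusionSystem S) (hF : F.IsSaturated p) (E : FusionSystem T)
    (hE : E.IsWeaklyNormalIn F p) : (resSys p E).IsInvariantIn F := by
  obtain ⟨hEs, -, hEinv⟩ := hE
  have hT : F.StronglyClosed T := hEinv.2.1
  have hTS : T ≤ S := hT.1
  have hTp : IsPGroup p T := hS.to_le hTS
  have hDF : (resSys p E).IsSubsystemOf F := fun P φ h => hEinv.1 P (resSys_le p E P h)
  have hBF : (bigSys p E).IsSubsystemOf F := fun P φ h => hEinv.1 P (bigSys_le p E P h)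
  have hSI : SItop (wneRes F hT) (resSys p E) :=
    olv_gen_SItop (wneRes F hT) (bigSys p E) (resSys p E) {P | E.IsCentric P}
      (le_wneRes F hT _ hDF) (le_wneRes F hT _ hBF)
      (fun P hP => bigSys_le_resSys_of_centric p E hP)
      (fun D hD => resSys_le_of p E hD)
      (fun P hP Q hPQ => wne_isCentric_of_isConj F hT E hEinv hP hPQ)
      (wne_SItop_bigSys p F hT E hEinv)
  obtain ⟨-, hfrat, -⟩ := resSys_main p hTp E hEs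
  refine ⟨hDF, hT, ?_, ?_⟩
  · intro P hPT φ hφ α hα
    obtain ⟨χ, hχ, hχv⟩ := hSI P hPT φ hφ (fun x => ((resSys p E).le_of_mem hφ).2 x)
      (T.subtype.comp α.toMonoidHom) ⟨(Fusion.mem_autGroup_iff F hTS α).mp hα, le_rfl⟩
    exact ⟨χ, hχ, fun x hφx hαx => hχv x hαx⟩
  · intro P hPT φ hφ
    obtain ⟨α₁, hα₁, φ₁, hφ₁, hv₁⟩ := hEinv.2.2.2 P hPT φ hφ
    obtain ⟨β, hβ, φ₀, hφ₀, hv₀⟩ := hfrat P φ₁ hφ₁
    refine ⟨α₁ * β, (F.autGroup T).mul_mem hα₁ (autGroup_le_of_subsystem F E hEinv.1 T hβ),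
      φ₀, hφ₀, fun x hx => ?_⟩
    have hφ₁T : φ₁ x ∈ T := (E.le_of_mem hφ₁).2 x
    rw [hv₁ x hφ₁T, MulAut.mul_apply]
    have e : (⟨φ₁ x, hφ₁T⟩ : T) = β ⟨φ₀ x, hx⟩ := Subtype.ext (hv₀ x hx)
    rw [e]

end Cfsg.Agent.WNE
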